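import Cfsg.Agent.H937.G24.Uniq
import Cfsg.Agent.H148.Oct.SepG2

/-!
# LOWDIM: `G₂(4)` in odd characteristic (helper937)

`P ≤ GL(ι, F)` a core, `F` finite, `2 ≠ 0` in `F`, `e : P / scalars ≃ G₂(4)`:

* `core_ge` : `12 ≤ |ι|`; `core_card` : `|ι| ≤ 12 → |ι| = 12`;
* `|ι| = 12`: `core_sd`, `core_fr`, `core_fixA`, `core_not_fixQ`, `core_scalar_sq`;
* `core_conj`, `core_trace` : two such cores `P, P'` and an isomorphism `ψ : P ≃ P'`: `ψ` is a conjugation.
-/

set_option autoImplicit false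
set_option linter.unusedSectionVars false

namespace Cfsg.Agent.H937.G24

open Cfsg Cfsg.Lie Cfsg.Geo Cfsg.Agent.H148.Oct Function Cfsg.Agent.H915.LD
open Cfsg.Agent.H161.Oct (AutO)

universe u

variable {K : Type} [Field K] [Fintype K] (hK : Fintype.card K = 4) {ι : Type} [Fintype ι] [DecidableEq ι]
  {F : Type u} [Field F] [Finite F] (h2 : (2 : F) ≠ 0) {P P' : Subgroup (GL ι F)}

/-- the map onto `AutO K` -/
noncomputable def phiP (e : Soc P ≃* ↥(chevG2.group K)) : P →* ↥(AutO K) :=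
  (nonempty_equiv K).some.symm.toMonoidHom.comp (e.toMonoidHom.comp (toSoc P))

theorem phiP_surj (e : Soc P ≃* ↥(chevG2.group K)) : Surjective (phiP e) :=
  (nonempty_equiv K).some.symm.surjective.comp (e.surjective.comp (toSoc_surjective P))

theorem phiP_eq_one (e : Soc P ≃* ↥(chevG2.group K)) {x : P} : phiP e x = 1 ↔ x ∈ (scalars ι F).subgroupOf P := by
  rw [← ker_toSoc, MonoidHom.mem_ker]
  show (nonempty_equiv K).some.symm (e (toSoc P x)) = 1 ↔ _
  rw [MulEquiv.map_eq_one_iff, MulEquiv.map_eq_one_iff]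

theorem phiP_ker (e : Soc P ≃* ↥(chevG2.group K)) : (phiP e).ker ≤ Subgroup.center P := by
  intro x hx
  exact scalars_le_center ((phiP_eq_one e).1 hx)

theorem finite_P : Finite P := by
  have : Finite (GL ι F) := inferInstance
  infer_instance

include hK h2

/-- **`12 ≤ |ι|`** -/
theorem core_ge (e : Soc P ≃* ↥(chevG2.group K)) : 12 ≤ Fintype.card ι := by
  have := charP_two hK
  obtain ⟨n, hn⟩ := exists_root hK
  have := finite_P (P := P)
  exact X_ge hK hn h2 (phiP_surj e) (phiP_ker e) (ρ := P.subtype) Subtype.val_injective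

theorem core_card (e : Soc P ≃* ↥(chevG2.group K)) (hι : Fintype.card ι ≤ 12) : Fintype.card ι = 12 :=
  le_antisymm hι (core_ge hK h2 e)

/-- **uniqueness** for two representations of a core -/
theorem core_uniq (hC : Core P) (e : Soc P ≃* ↥(chevG2.group K)) (h12 : Fintype.card ι = 12) {σ : P →* GL ι F}
    (hσ : Injective σ) : ∃ J : GL ι F, ∀ x : P, σ x = J * (x : GL ι F) * J⁻¹ := by
  have := charP_two hK
  obtain ⟨n, hn⟩ := exists_root hK
  have := finite_P (P := P)
  exact uniq hK hn h2 (phiP_surj e) (phiP_ker e) hC.commutator_top (ρ := P.subtype) (σ := σ) Subtype.val_injective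
    hσ h12

theorem core_conj (hC : Core P) (e : Soc P ≃* ↥(chevG2.group K)) (h12 : Fintype.card ι = 12) (ψ : P ≃* P') :
    ∃ J : GL ι F, ∀ x : P, (ψ x : GL ι F) = J * (x : GL ι F) * J⁻¹ :=
  core_uniq hK h2 hC e h12 (σ := P'.subtype.comp ψ.toMonoidHom) (Subtype.val_injective.comp ψ.injective)

theorem core_trace (hC : Core P) (e : Soc P ≃* ↥(chevG2.group K)) (h12 : Fintype.card ι = 12) (ψ : P ≃* P') (x : P) :
    tr (ψ x : GL ι F) = tr (x : GL ι F) := by
  obtain ⟨J, hJ⟩ := core_conj hK h2 hC e h12 ψ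
  rw [hJ, tr_conj]

/-- self-dual -/
theorem core_sd (hC : Core P) (e : Soc P ≃* ↥(chevG2.group K)) (h12 : Fintype.card ι = 12) : SD P := by
  intro g hg
  have hinj : Injective (H920.dualRep (RingEquiv.refl F) P) := by
    intro a b hab
    have h1 := congrArg (fun M : GL ι F => ((M : Matrix ι ι F)).transpose) hab
    have h3 : ((a⁻¹ : P) : GL ι F) = ((b⁻¹ : P) : GL ι F) := Units.ext h1
    exact inv_injective (Subtype.ext h3)
  obtain ⟨J, hJ⟩ := core_uniq hK h2 hC e h12 hinj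
  have h1 := congrArg tr (hJ ⟨g, hg⟩)
  rw [tr_conj] at h1
  rw [← h1]
  unfold tr
  rw [H920.dualRep_val, Matrix.trace_transpose, H920.trace_map]
  rfl

/-- the scalars are `±1` -/
theorem core_scalar_sq (hC : Core P) (e : Soc P ≃* ↥(chevG2.group K)) (h12 : Fintype.card ι = 12) {z : P}
    (hz : z ∈ (scalars ι F).subgroupOf P) : z * z = 1 := by
  have hinj : Injective (H920.dualRep (RingEquiv.refl F) P) := by
    intro a b hab
    have h1 := congrArg (fun M : GL ι F => ((M : Matrix ι ι F)).transpose) hab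
    have h3 : ((a⁻¹ : P) : GL ι F) = ((b⁻¹ : P) : GL ι F) := Units.ext h1
    exact inv_injective (Subtype.ext h3)
  obtain ⟨J, hJ⟩ := core_uniq hK h2 hC e h12 hinj
  rw [Subgroup.mem_subgroupOf, mem_scalars_iff] at hz
  obtain ⟨c, hc⟩ := hz
  have h1 := congrArg (fun M : GL ι F => (M : Matrix ι ι F)) (hJ z)
  have h3 : ((J * (z : GL ι F) * J⁻¹ : GL ι F) : Matrix ι ι F) = (z : GL ι F) := by
    rw [Units.val_mul, Units.val_mul, hc, Matrix.mul_smul, Matrix.smul_mul, mul_one, ← Units.val_mul, mul_inv_cancel,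
      Units.val_one]
  rw [h3, H920.dualRep_val] at h1
  -- `(z⁻¹)ᵀ = z`
  have h5 : ((((z : GL ι F)⁻¹ : GL ι F) : Matrix ι ι F).map (RingEquiv.refl F)) = ((z : GL ι F) : Matrix ι ι F) := by
    have h6 := congrArg Matrix.transpose h1
    rw [Matrix.transpose_transpose] at h6
    rw [h6, hc, Matrix.transpose_smul, Matrix.transpose_one]
  have h6 : ((z : GL ι F)⁻¹ : GL ι F) = (z : GL ι F) := Units.ext h5
  apply Subtype.ext
  show (z : GL ι F) * (z : GL ι F) = 1
  nth_rw 1 [← h6]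
  exact inv_mul_cancel _

/-- the traces are in the prime field -/
theorem core_fr (hC : Core P) (e : Soc P ≃* ↥(chevG2.group K)) (h12 : Fintype.card ι = 12) (p : ℕ) [Fact p.Prime]
    [CharP F p] : Fr P p := by
  intro g hg
  let f : F →+* F := frobenius F p
  have hf : Injective f := frobenius_inj F p
  let σ : P →* GL ι F := (Matrix.GeneralLinearGroup.map f).comp P.subtype
  have hinj : Injective σ := by
    intro a b hab
    apply Subtype.ext
    apply Units.ext
    have h1 : ((a : GL ι F) : Matrix ι ι F).map f = ((b : GL ι F) : Matrix ι ι F).map f :=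
      congrArg (fun M : GL ι F => (M : Matrix ι ι F)) hab
    ext i j
    exact hf (congrFun (congrFun h1 i) j)
  obtain ⟨J, hJ⟩ := core_uniq hK h2 hC e h12 hinj
  have h1 := congrArg tr (hJ ⟨g, hg⟩)
  rw [tr_conj] at h1
  have h3 : tr (σ ⟨g, hg⟩) = f (tr g) := by
    show Matrix.trace ((g : Matrix ι ι F).map f) = f (Matrix.trace (g : Matrix ι ι F))
    simp [Matrix.trace, Matrix.diag]
  rw [h3] at h1
  exact h1

theorem core_not_fixQ (e : Soc P ≃* ↥(chevG2.group K)) (h12 : Fintype.card ι = 12) : ¬ FixQ P := by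
  have := charP_two hK
  obtain ⟨n, hn⟩ := exists_root hK
  have := finite_P (P := P)
  obtain ⟨s, hs⟩ := exists_LL_section hK hn (phiP_surj e) (phiP_ker e)
  have hsi : Injective s := fun a b hab => Subtype.ext (by rw [← hs a, ← hs b, hab])
  rintro ⟨Q, hQ, hP⟩
  refine LL_not_fixQ hK hn h2 (τ := P.subtype.comp s) (Subtype.val_injective.comp hsi) h12 ⟨Q, hQ, ?_⟩
  rintro M ⟨g, hg, rfl⟩
  obtain ⟨l, rfl⟩ := hg
  exact hP _ ⟨_, (s l).2, rfl⟩

theorem core_fixA (hC : Core P) (e : Soc P ≃* ↥(chevG2.group K)) (h12 : Fintype.card ι = 12) : FixA P :=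
  (hC.forms_of_sd (core_sd hK h2 hC e h12)).resolve_left (core_not_fixQ hK h2 e h12)

omit hK h2 in
/-- **The row** (`hT` is `H912.Bd.IsG2 4 (Soc P)`) -/
theorem row (hC : Core P) (hT : ∃ (K : Type) (_ : Field K) (_ : Fintype K), Fintype.card K = 4 ∧
    Nonempty (Soc P ≃* Cfsg.Lie.chevG2.group K)) (p : ℕ) [Fact p.Prime] [CharP F p] (hp : p ≠ 2)
    (hι : Fintype.card ι ≤ 12) : Fintype.card ι = 12 ∧ SD P ∧ Fr P p ∧ FixA P ∧ ¬ FixQ P := by
  obtain ⟨K, i1, i2, hK, ⟨e⟩⟩ := hT
  have h2 : (2 : F) ≠ 0 := by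
    intro h0
    have h1 : ((2 : ℕ) : F) = 0 := by exact_mod_cast h0
    have h3 := (CharP.cast_eq_zero_iff F p 2).1 h1
    exact hp ((Nat.prime_dvd_prime_iff_eq Fact.out Nat.prime_two).1 h3)
  have h12 := core_card hK h2 e hι
  exact ⟨h12, core_sd hK h2 hC e h12, core_fr hK h2 hC e h12 p, core_fixA hK h2 hC e h12, core_not_fixQ hK h2 e h12⟩

end Cfsg.Agent.H937.G24
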