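import Cfsg.Agent.H937.G24.Qk

/-!
# The elements of `QQ` modulo `RR` (helper937)
-/

set_option autoImplicit false
set_option linter.unusedSectionVars false
set_option linter.unusedSimpArgs false

namespace Cfsg.Agent.H937.G24

section

open Cfsg.Lie Cfsg.Agent.H161.Oct Cfsg.Agent.H148.Oct

variable {K : Type*} [Field K]

/-- the elements of `QQ` modulo `RR` -/
noncomputable def qg (a c s t : K) : ↥(AutO K) :=
  ⟨ut a 0 c, ut_mem _ _ _⟩ * ⟨tau ![s, 0, 0], tau_mem _⟩ * ⟨tl ![0, 0, t], tl_mem _⟩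

theorem qg_apply (a c s t : K) (x : V K) :
    (qg a c s t).1 x = ut a 0 c (tau ![s, 0, 0] (tl ![0, 0, t] x)) := rfl

theorem qg_QQ (a c s t : K) : qg a c s t ∈ QQ K :=
  (QQ K).mul_mem ((QQ K).mul_mem (ut_QQ _ _ _) (tau_QQ _)) (tl_QQ _)

theorem qk_eq_qg (n : K) (i : K × K) : qk n i = qg (i.2 * n + i.1) ((i.1 + i.2) * n ^ 2) i.1 i.2 := rfl

variable [CharP K 2]

theorem qg_comm (a c s t a' c' s' t' : K) : qg a c s t * qg a' c' s' t' =
    rt (t * s' + s * t' + a * c' + c * a') * (qg a' c' s' t' * qg a c s t) := by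
  have h2 := two_zero (K := K)
  obtain ⟨β, hβ⟩ := mem_RR_iff.1 (QQ_comm (qg_QQ a c s t) (qg_QQ a' c' s' t'))
  have h1 : qg a c s t * qg a' c' s' t' = rt β * (qg a' c' s' t' * qg a c s t) := by
    rw [← hβ]; group
  rw [h1]
  congr 2
  have h3 := congrArg (fun g : ↥(AutO K) => g.1 (Pi.single 3 1) 1) h1
  simp only [val_mul, rt_apply, qg_apply] at h3
  simp [ut0, ut1, ut2, ut3, ut4, ut5, ut6, ut7, tau_apply, tau0, tau1, tau2, tau3, tau4, tau5, tau6, tau7,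
    tl0, tl1, tl2, tl3, tl4, tl5, tl6, tl7] at h3
  linear_combination (-1 : K) * h3 + (t * s' - 2 * t' * s - a' * c) * h2

variable {n : K} (hn : n ^ 2 + n + 1 = 0)

include hn

theorem xx_qk (i : K × K) : qg 1 0 (n ^ 2) (n ^ 2) * qk n i = qk n i * qg 1 0 (n ^ 2) (n ^ 2) := by
  have h2 := two_zero (K := K)
  rw [qk_eq_qg, qg_comm]
  have e : n ^ 2 * i.1 + n ^ 2 * i.2 + 1 * ((i.1 + i.2) * n ^ 2) + 0 * (i.2 * n + i.1) = (0 : K) := by
    linear_combination (n ^ 2 * i.1 + n ^ 2 * i.2) * h2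
  rw [e, rt_zero, one_mul]

theorem xx_xx : qg 1 0 (n ^ 2) (n ^ 2) * qg 0 1 n 1 ≠ qg 0 1 n 1 * qg 1 0 (n ^ 2) (n ^ 2) := by
  have h2 := two_zero (K := K)
  intro h
  rw [qg_comm] at h
  have h1 := mul_eq_right.1 h
  rw [← rt_zero] at h1
  have h3 := rt_inj h1
  apply n_ne hn
  have h5 : n ^ 2 = 0 := by linear_combination h3 - (n - 1) * hn - h2
  exact pow_eq_zero_iff (by norm_num) |>.1 h5

end

end Cfsg.Agent.H937.G24
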