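import Cfsg.Agent.H937.G24.Row
import Cfsg.Agent.H937.G24.Qg

/-!
# The centre of `2.G₂(4)` in dimension 12 (helper937)

`card_scalars` : a core with socle `G₂(4)` in dimension 12, odd characteristic, has exactly two scalars.
-/

set_option autoImplicit false
set_option linter.unusedSectionVars false

namespace Cfsg.Agent.H937.G24

open Cfsg Cfsg.Lie Cfsg.Geo Cfsg.Agent.H148.Oct Function Cfsg.Agent.H915.LD
open Cfsg.Agent.H161.Oct (AutO)

universe u

section

variable {K : Type} [Field K] [Fintype K] [CharP K 2] {n : K} (h4 : Fintype.card K = 4) (hn : n ^ 2 + n + 1 = 0)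
  {ι : Type} [Fintype ι] [DecidableEq ι] {F : Type u} [Field F] (h2 : (2 : F) ≠ 0)

include h4 hn h2

/-- `G₂(4)` has no faithful representation of degree 12 -/
theorem no_rep {ρ : ↥(AutO K) →* GL ι F} (hρ : Injective ρ) : Fintype.card ι ≠ 12 := by
  classical
  intro h12
  let τ : ↥(LL n (1 : K)) →* GL ι F := ρ.comp (LL n (1 : K)).subtype
  have hτ : Injective τ := hρ.comp Subtype.val_injective
  have h1 := commutant (gE τ) (psi F h4) (heisL hn) (psi_primitive F h4 h2 hn) h2 h4 (nontriv hτ)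
    (by rw [Module.finrank_pi, h12]) hL_one (T := gE ρ (qg 1 0 (n ^ 2) (n ^ 2))) (S := gE ρ (qg 0 1 n 1))
    (fun i => by
      change gE ρ _ * gE ρ (qk n i) = gE ρ (qk n i) * gE ρ _
      rw [← map_mul, ← map_mul, xx_qk hn])
    (fun b => by
      change gE ρ _ * gE ρ (rt b) = gE ρ (rt b) * gE ρ _
      rw [← map_mul, ← map_mul, comm_rt (qg_QQ _ _ _ _).1])
    (fun b => by
      change gE ρ _ * gE ρ (rt b) = gE ρ (rt b) * gE ρ _
      rw [← map_mul, ← map_mul, comm_rt (qg_QQ _ _ _ _).1])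
  rw [← map_mul, ← map_mul] at h1
  exact xx_xx hn (hρ (gE_inj h1)).symm

end

variable {K : Type} [Field K] [Fintype K] (hK : Fintype.card K = 4) {ι : Type} [Fintype ι] [DecidableEq ι]
  {F : Type u} [Field F] [Finite F] (h2 : (2 : F) ≠ 0) {P P' : Subgroup (GL ι F)}

include hK h2

theorem exists_scalar (e : Soc P ≃* ↥(chevG2.group K)) (h12 : Fintype.card ι = 12) :
    ∃ z ∈ (scalars ι F).subgroupOf P, z ≠ 1 := by
  have := charP_two hK
  obtain ⟨n, hn⟩ := exists_root hK
  by_contra hcon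
  push Not at hcon
  have hinj : Injective (phiP e) := by
    rw [injective_iff_map_eq_one]
    intro z hz
    exact hcon z ((phiP_eq_one e).1 hz)
  let f : P ≃* ↥(AutO K) := MulEquiv.ofBijective (phiP e) ⟨hinj, phiP_surj e⟩
  exact no_rep hK hn h2 (ρ := P.subtype.comp f.symm.toMonoidHom) (Subtype.val_injective.comp f.symm.injective) h12

/-- a scalar different from 1 is `-1` -/
theorem scalar_neg (hC : Core P) (e : Soc P ≃* ↥(chevG2.group K)) (h12 : Fintype.card ι = 12) {z : P}
    (hz : z ∈ (scalars ι F).subgroupOf P) (hz1 : z ≠ 1) : ((z : GL ι F) : Matrix ι ι F) = (-1 : F) • 1 := by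
  have h1 := core_scalar_sq hK h2 hC e h12 hz
  have hι : Nonempty ι := by
    rw [← Fintype.card_pos_iff, h12]; norm_num
  rw [Subgroup.mem_subgroupOf, mem_scalars_iff] at hz
  obtain ⟨c, hc⟩ := hz
  have h3 : ((c : F) * c) • (1 : Matrix ι ι F) = (1 : F) • 1 := by
    have h5 : ((z : GL ι F) : Matrix ι ι F) * ((z : GL ι F) : Matrix ι ι F) = 1 := by
      rw [← Units.val_mul, ← Subgroup.coe_mul, h1]
      rfl
    rw [hc, smul_mul_smul_comm, mul_one] at h5
    rw [h5, one_smul]
  have h5 : (c : F) * c = 1 := smul_left_injective F (one_ne_zero (α := Matrix ι ι F)) h3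
  have h6 : (c : F) ≠ 1 := by
    intro h
    apply hz1
    apply Subtype.ext
    apply Units.ext
    rw [hc, h, one_smul]
    rfl
  have h7 : ((c : F) - 1) * ((c : F) + 1) = 0 := by linear_combination h5
  have h8 := (mul_eq_zero.1 h7).resolve_left (sub_ne_zero.2 h6)
  rw [hc, eq_neg_of_add_eq_zero_left h8]

/-- `-1 ∈ P` -/
theorem neg_one_mem (hC : Core P) (e : Soc P ≃* ↥(chevG2.group K)) (h12 : Fintype.card ι = 12) :
    ∃ g ∈ P, (g : Matrix ι ι F) = (-1 : F) • 1 := by
  obtain ⟨z, hz, hz1⟩ := exists_scalar hK h2 e h12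
  exact ⟨z, z.2, scalar_neg hK h2 hC e h12 hz hz1⟩

/-- **there are two scalars** -/
theorem card_scalars (hC : Core P) (e : Soc P ≃* ↥(chevG2.group K)) (h12 : Fintype.card ι = 12) :
    Nat.card ((scalars ι F).subgroupOf P) = 2 := by
  obtain ⟨z, hz, hz1⟩ := exists_scalar hK h2 e h12
  rw [Nat.card_eq_two_iff]
  refine ⟨1, ⟨z, hz⟩, fun h => hz1 (congrArg Subtype.val h).symm, ?_⟩
  rw [Set.eq_univ_iff_forall]
  rintro ⟨w, hw⟩
  by_cases h1 : w = 1
  · left
    exact Subtype.ext h1
  · right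
    rw [Set.mem_singleton_iff]
    apply Subtype.ext
    apply Subtype.ext
    apply Units.ext
    exact (scalar_neg hK h2 hC e h12 hw h1).trans (scalar_neg hK h2 hC e h12 hz hz1).symm

end Cfsg.Agent.H937.G24
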