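import Cfsg.Agent.H937.G24.Qk

/-!
# The fixed point argument: a subgroup containing `RR` and all `[y, q]` contains `QQ` (helper937)
-/

set_option autoImplicit false
set_option linter.unusedSectionVars false

namespace Cfsg.Agent.H937.G24

open Cfsg.Lie Cfsg.Agent.H161.Oct Cfsg.Agent.H148.Oct

variable {K : Type*} [Field K]

section chartwo

variable [CharP K 2]

/-- squares of elements of `QQ` -/
theorem QQ_sq {q : ↥(AutO K)} (hq : q ∈ QQ K) : q * q ∈ RR K := by
  intro x hx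
  have h1 : q.1 x = x + (q.1 x - x) := by abel
  have h2 := hq.1 _ (hq.2 x hx)
  rw [val_mul]
  have h4 : q.1 (q.1 x) = x + (q.1 x - x) + (q.1 x - x) := by
    conv_lhs => rw [h1, map_add, h2]
    conv_lhs => rw [h1]
    abel
  have h3 : x + (q.1 x - x) + (q.1 x - x) = x + (2 : K) • (q.1 x - x) := by
    rw [two_smul]; abel
  rw [h4, h3, two_zero, zero_smul, add_zero]

theorem rt_self (b : K) : rt b * rt b = 1 := by
  rw [← rt_add, CharTwo.add_self_eq_zero, rt_zero]

theorem QQ_pow {q : ↥(AutO K)} (hq : q ∈ QQ K) : q ^ 4 = 1 := by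
  obtain ⟨b, hb⟩ := mem_RR_iff.1 (QQ_sq hq)
  have : q ^ 4 = (q * q) * (q * q) := by rw [← pow_two, ← pow_two, ← pow_mul]
  rw [this, hb, rt_self]

variable [Finite K]

theorem not_five_dvd {D : Subgroup ↥(AutO K)} [Finite D] (hD : D ≤ QQ K) : ¬ 5 ∣ Nat.card D := by
  intro h
  have : Fact (Nat.Prime 5) := ⟨by norm_num⟩
  obtain ⟨x, hx⟩ := exists_prime_orderOf_dvd_card' 5 h
  have h1 : x ^ 4 = 1 := Subtype.ext (QQ_pow (hD x.2))
  have h3 := orderOf_dvd_of_pow_eq_one h1
  rw [hx] at h3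
  omega

variable {n : K} (hn : n ^ 2 + n + 1 = 0)

include hn

/-- **fixed point argument** -/
theorem QQ_le_of [Finite ↥(AutO K)] {C : Subgroup ↥(AutO K)} (hR : RR K ≤ C)
    (hy : ∀ q ∈ QQ K, yy hn * q * (yy hn)⁻¹ * q⁻¹ ∈ C) : QQ K ≤ C := by
  classical
  intro q hq
  set y := yy hn with hydef
  let D : Subgroup ↥(AutO K) := C ⊓ QQ K
  let S := {x : ↥(AutO K) // x * q⁻¹ ∈ D}
  have hS : ∀ x : S, x.1 ∈ QQ K := by
    intro x
    have h1 := (QQ K).mul_mem x.2.2 hq
    rwa [inv_mul_cancel_right] at h1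
  have hf : ∀ x : S, y * x.1 * y⁻¹ * q⁻¹ ∈ D := by
    intro x
    have h1 : y * x.1 * y⁻¹ * q⁻¹ = (y * x.1 * y⁻¹ * x.1⁻¹) * (x.1 * q⁻¹) := by group
    rw [h1]
    refine D.mul_mem ⟨hy _ (hS x), ?_⟩ x.2
    exact (QQ K).mul_mem (QQ_normal (yy_P0 hn) (hS x)) ((QQ K).inv_mem (hS x))
  let f : Function.End S := fun x => ⟨y * x.1 * y⁻¹, hf x⟩
  have hfp : ∀ m : ℕ, ∀ x : S, ((f ^ m : Function.End S) x).1 = y ^ m * x.1 * (y ^ m)⁻¹ := by
    intro m
    induction m with
    | zero =>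
      intro x
      rw [pow_zero, pow_zero, one_mul, inv_one, mul_one]
      rfl
    | succ m ih =>
      intro x
      have h1 : (f ^ (m + 1) : Function.End S) x = f ((f ^ m : Function.End S) x) := by
        rw [pow_succ']; rfl
      rw [h1]
      change y * ((f ^ m : Function.End S) x).1 * y⁻¹ = _
      rw [ih, pow_succ']
      group
  have hf5 : f ^ 5 ^ 1 = 1 := by
    funext x
    apply Subtype.ext
    rw [hfp, pow_one, yy_pow hn, one_mul, inv_one, mul_one]
    rfl
  have hfin : Fintype S := Fintype.ofFinite S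
  have : Fact (Nat.Prime 5) := ⟨by norm_num⟩
  have h5 := Equiv.Perm.card_fixedPoints_modEq hf5
  -- the number of elements
  have hcard : Fintype.card S = Nat.card D := by
    rw [← Nat.card_eq_fintype_card]
    exact Nat.card_congr
      { toFun := fun x => ⟨x.1 * q⁻¹, x.2⟩
        invFun := fun d => ⟨d.1 * q, by rw [mul_inv_cancel_right]; exact d.2⟩
        left_inv := fun x => Subtype.ext (inv_mul_cancel_right _ _)
        right_inv := fun d => Subtype.ext (mul_inv_cancel_right _ _) }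
  have h6 : Fintype.card f.fixedPoints ≠ 0 := by
    intro h0
    rw [h0, Nat.modEq_zero_iff_dvd, hcard] at h5
    exact not_five_dvd (inf_le_right : D ≤ QQ K) h5
  obtain ⟨⟨x, hx⟩⟩ := Fintype.card_pos_iff.1 (Nat.pos_of_ne_zero h6)
  have h7 : y * x.1 * y⁻¹ = x.1 := congrArg Subtype.val hx
  have h8 : x.1 ∈ RR K := cent_yy hn (hS x) (by rw [← hydef]; exact mul_inv_eq_iff_eq_mul.1 h7)
  have h9 : q = (x.1 * q⁻¹)⁻¹ * x.1 := by group
  rw [h9]
  exact C.mul_mem (C.inv_mem x.2.1) (hR h8)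

end chartwo

end Cfsg.Agent.H937.G24
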