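import Cfsg.Agent.H937.G24.Sh

/-!
# The parabolic subgroup of a special line: `R`, `Q` (helper937)

* `rt b = ut 0 b 0`, `RR` the long root group; `mem_RR_iff` : `g ∈ RR ↔ g` fixes all vectors orthogonal to `N0`;
* `QQ` : the unipotent radical; `QQ` normal under `P0`; `[QQ, QQ] ≤ RR`; `RR` centralises `QQ`.
-/

set_option autoImplicit false
set_option linter.unusedSimpArgs false

namespace Cfsg.Agent.H937.G24

open Cfsg.Lie Cfsg.Agent.H161.Oct Cfsg.Agent.H148.Oct

variable {K : Type*} [Field K]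

theorem val_mul (a b : ↥(AutO K)) (x : V K) : (a * b).1 x = a.1 (b.1 x) := rfl

theorem val_inv_self (a : ↥(AutO K)) (x : V K) : (a⁻¹).1 (a.1 x) = x := a.1.symm_apply_apply x
theorem val_self_inv (a : ↥(AutO K)) (x : V K) : a.1 ((a⁻¹).1 x) = x := a.1.apply_symm_apply x

theorem val_ext {a b : ↥(AutO K)} (h : ∀ x, a.1 x = b.1 x) : a = b := Subtype.ext (LinearEquiv.ext h)

/-- long root elements -/
noncomputable def rt (b : K) : ↥(AutO K) := ⟨ut 0 b 0, ut_mem _ _ _⟩

theorem rt_apply (b : K) (x : V K) : (rt b).1 x = ut 0 b 0 x := rfl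

theorem rt_add (b c : K) : rt (b + c) = rt b * rt c := by
  apply val_ext
  intro x
  rw [val_mul, rt_apply, rt_apply, rt_apply]
  apply ext8 <;> simp only [ut0, ut1, ut2, ut3, ut4, ut5, ut6, ut7] <;> ring

theorem rt_zero : rt (0 : K) = 1 := by
  apply val_ext
  intro x
  rw [rt_apply]
  change _ = x
  apply ext8 <;> simp only [ut0, ut1, ut2, ut3, ut4, ut5, ut6, ut7] <;> ring

theorem rt_inj {b c : K} (h : rt b = rt c) : b = c := by
  have h1 : (rt b).1 (Pi.single 3 1) 1 = (rt c).1 (Pi.single 3 1) 1 := by rw [h]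
  rw [rt_apply, rt_apply, ut1, ut1] at h1
  simpa using h1

/-- the long root group -/
def RR (K : Type*) [Field K] : Subgroup ↥(AutO K) where
  carrier := {g | ∀ x, Perp x → g.1 x = x}
  mul_mem' {a b} ha hb x hx := by rw [val_mul, hb x hx, ha x hx]
  one_mem' _ _ := rfl
  inv_mem' {a} ha x hx := by
    conv_lhs => rw [← ha x hx]
    exact val_inv_self a x

theorem mem_RR {g : ↥(AutO K)} : g ∈ RR K ↔ ∀ x, Perp x → g.1 x = x := Iff.rfl

theorem rt_mem (b : K) : rt b ∈ RR K := fun _ hx => ut_of_perp b hx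

theorem mem_RR_iff {g : ↥(AutO K)} : g ∈ RR K ↔ ∃ b, g = rt b := by
  refine ⟨fun h => ?_, ?_⟩
  swap
  · rintro ⟨b, rfl⟩
    exact rt_mem b
  rw [mem_RR] at h
  -- `g v - v` is orthogonal to all `Perp` vectors
  have hb : ∀ v u, Perp u → bl (g.1 v) u = bl v u := by
    intro v u hu
    conv_lhs => rw [← h u hu]
    exact map_bl g.2 v u
  have P1 : Perp (Pi.single 1 1 : V K) := by simp [Perp]
  have P0 : Perp (Pi.single 0 1 : V K) := by simp [Perp]
  have P2 : Perp (Pi.single 2 1 : V K) := by simp [Perp]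
  have P5 : Perp (Pi.single 5 1 : V K) := by simp [Perp]
  have P6 : Perp (Pi.single 6 1 : V K) := by simp [Perp]
  have P7 : Perp (Pi.single 7 1 : V K) := by simp [Perp]
  have c7 : ∀ v, g.1 v 7 = v 7 := fun v => by simpa only [bl_single0] using hb v _ P0
  have c4 : ∀ v, g.1 v 4 = v 4 := fun v => by simpa only [bl_single1, neg_inj] using hb v _ P1
  have c5 : ∀ v, g.1 v 5 = v 5 := fun v => by simpa only [bl_single2, neg_inj] using hb v _ P2
  have c2 : ∀ v, g.1 v 2 = v 2 := fun v => by simpa only [bl_single5, neg_inj] using hb v _ P5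
  have c3 : ∀ v, g.1 v 3 = v 3 := fun v => by simpa only [bl_single6, neg_inj] using hb v _ P6
  have c0 : ∀ v, g.1 v 0 = v 0 := fun v => by simpa only [bl_single7] using hb v _ P7
  have n3 := map_nm g.2 (Pi.single 3 1)
  have n4 := map_nm g.2 (Pi.single 4 1)
  have n34 := map_bl g.2 (Pi.single 3 1) (Pi.single 4 1)
  have e36 : g.1 (Pi.single 3 1) 6 = 0 := by
    rw [nm, c0, c7, c4, c2, c5, c3] at n3
    simp [nm] at n3
    exact n3
  have e41 : g.1 (Pi.single 4 1) 1 = 0 := by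
    rw [nm, c0, c7, c4, c2, c5, c3] at n4
    simp [nm] at n4
    exact n4
  have e46 : g.1 (Pi.single 4 1) 6 = - g.1 (Pi.single 3 1) 1 := by
    rw [bl_single4, bl, c0, c7, c4, c2, c5, c3, c0, c7, c4, c2, c5, c3] at n34
    simp [e36, e41] at n34
    linear_combination -n34
  refine ⟨g.1 (Pi.single 3 1) 1, ?_⟩
  set b := g.1 (Pi.single 3 1) 1 with hbdef
  have g3 : g.1 (Pi.single 3 1) = (rt b).1 (Pi.single 3 1) := by
    rw [rt_apply]
    apply ext8 <;> simp only [ut0, ut1, ut2, ut3, ut4, ut5, ut6, ut7, c0, c2, c3, c4, c5, c7, e36, ← hbdef] <;> simp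
  have g4 : g.1 (Pi.single 4 1) = (rt b).1 (Pi.single 4 1) := by
    rw [rt_apply]
    apply ext8 <;> simp only [ut0, ut1, ut2, ut3, ut4, ut5, ut6, ut7, c0, c2, c3, c4, c5, c7, e41, e46] <;> simp
  apply val_ext
  intro x
  obtain ⟨y, hy⟩ : ∃ y, y = x - x 3 • Pi.single 3 1 - x 4 • Pi.single 4 1 := ⟨_, rfl⟩
  have hx : x = y + (x 3 • Pi.single 3 1 + x 4 • Pi.single 4 1) := by
    rw [hy]; abel
  have hP : Perp y := by
    rw [hy]
    constructor <;> simp
  rw [hx, map_add, map_add (rt b).1, h _ hP, rt_mem b _ hP, map_add g.1, map_add (rt b).1, map_smul, map_smul,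
    map_smul, map_smul, g3, g4]

/-- the unipotent radical -/
def QQ (K : Type*) [Field K] : Subgroup ↥(AutO K) where
  carrier := {g | (∀ x ∈ N0 K, g.1 x = x) ∧ ∀ x, Perp x → g.1 x - x ∈ N0 K}
  mul_mem' {a b} ha hb := by
    refine ⟨fun x hx => by rw [val_mul, hb.1 x hx, ha.1 x hx], fun x hx => ?_⟩
    have e : (a * b).1 x - x = (a.1 x - x) + (b.1 x - x) := by
      rw [val_mul]
      have h1 : b.1 x = x + (b.1 x - x) := by abel
      have h2 := ha.1 _ (hb.2 x hx)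
      conv_lhs => rw [h1, map_add, h2]
      abel
    rw [e]
    exact (N0 K).add_mem (ha.2 x hx) (hb.2 x hx)
  one_mem' := ⟨fun _ _ => rfl, fun x _ => by
    change x - x ∈ N0 K
    rw [sub_self]
    exact (N0 K).zero_mem⟩
  inv_mem' {a} ha := by
    have h1 : ∀ x ∈ N0 K, (a⁻¹).1 x = x := by
      intro x hx
      conv_lhs => rw [← ha.1 x hx]
      exact val_inv_self a x
    refine ⟨h1, fun x hx => ?_⟩
    have e : (a⁻¹).1 x - x = -(a.1 x - x) := by
      have h2 := h1 _ (ha.2 x hx)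
      rw [map_sub, val_inv_self] at h2
      have h3 : (a⁻¹).1 x = x - (a.1 x - x) := by rw [← h2]; abel
      rw [h3]; abel
    rw [e]
    exact (N0 K).neg_mem (ha.2 x hx)

theorem mem_QQ {g : ↥(AutO K)} : g ∈ QQ K ↔ (∀ x ∈ N0 K, g.1 x = x) ∧ ∀ x, Perp x → g.1 x - x ∈ N0 K := Iff.rfl

theorem perp_of_N0 {x : V K} (h : x ∈ N0 K) : Perp x := ⟨h.2.2.1, h.2.2.2.1⟩

theorem RR_le_QQ : RR K ≤ QQ K := by
  intro g hg
  refine ⟨fun x hx => hg x (perp_of_N0 hx), fun x hx => ?_⟩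
  rw [hg x hx, sub_self]
  exact (N0 K).zero_mem

/-- `P0` preserves `Perp` -/
theorem perp_map {g : ↥(AutO K)} (hg : g.1 ∈ P0 K) {x : V K} (hx : Perp x) : Perp (g.1 x) := by
  rw [perp_iff] at hx ⊢
  intro y hy
  have h1 : g.1 ((g⁻¹).1 y) = y := val_self_inv g y
  rw [← h1, map_bl g.2]
  exact hx _ ((hg.2 _).1 (by rw [h1]; exact hy))

theorem QQ_normal {g : ↥(AutO K)} (hg : g.1 ∈ P0 K) {q : ↥(AutO K)} (hq : q ∈ QQ K) : g * q * g⁻¹ ∈ QQ K := by
  have hg' : (g⁻¹).1 ∈ P0 K := (P0 K).inv_mem hg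
  constructor
  · intro x hx
    rw [val_mul, val_mul, hq.1 _ ((hg'.2 x).2 hx), val_self_inv]
  · intro x hx
    have h1 := hq.2 _ (perp_map hg' hx)
    have h2 := (hg.2 _).2 h1
    rw [map_sub, val_self_inv] at h2
    exact h2

/-- `[QQ, QQ] ≤ RR` -/
theorem QQ_comm {a b : ↥(AutO K)} (ha : a ∈ QQ K) (hb : b ∈ QQ K) : a * b * a⁻¹ * b⁻¹ ∈ RR K := by
  have key : ∀ x, Perp x → (a * b).1 x = (b * a).1 x := by
    intro x hx
    rw [val_mul, val_mul]
    have h1 : b.1 x = x + (b.1 x - x) := by abel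
    have h2 : a.1 x = x + (a.1 x - x) := by abel
    have h3 := ha.1 _ (hb.2 x hx)
    have h4 := hb.1 _ (ha.2 x hx)
    conv_lhs => rw [h1, map_add, h3, h2]
    conv_rhs => rw [h2, map_add, h4, h1]
    abel
  have hP : ∀ g ∈ QQ K, ∀ x, Perp x → Perp (g.1 x) := by
    intro g hg x hx
    have h1 : g.1 x = x + (g.1 x - x) := by abel
    have h2 := perp_of_N0 (hg.2 x hx)
    rw [h1]
    exact ⟨by rw [Pi.add_apply, hx.1, h2.1, add_zero], by rw [Pi.add_apply, hx.2, h2.2, add_zero]⟩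
  intro x hx
  have h1 : a * b * a⁻¹ * b⁻¹ = (a * b) * (b * a)⁻¹ := by group
  rw [h1, val_mul]
  have h2 : Perp (((b * a)⁻¹).1 x) := hP _ ((QQ K).inv_mem ((QQ K).mul_mem hb ha)) x hx
  rw [key _ h2, val_self_inv]

/-- elements fixing `N0` pointwise (up to determinant one) commute with `RR` -/
theorem comm_rt {g : ↥(AutO K)} (hg : ∀ x ∈ N0 K, g.1 x = x) (b : K) : g * rt b = rt b * g := by
  have h1 : g.1 (Pi.single 1 1) = Pi.single 1 1 := hg _ (by simp [mem_N0])
  have h6 : g.1 (Pi.single 6 1) = Pi.single 6 1 := hg _ (by simp [mem_N0])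
  apply val_ext
  intro x
  rw [val_mul, val_mul, rt_apply, rt_apply, ut_siegel, ut_siegel, map_add, map_smul, map_sub, map_smul, map_smul, h1, h6]
  have e1 : bl (g.1 x) (Pi.single 1 1) = bl x (Pi.single 1 1) := by
    conv_lhs => rw [← h1]
    exact map_bl g.2 _ _
  have e6 : bl (g.1 x) (Pi.single 6 1) = bl x (Pi.single 6 1) := by
    conv_lhs => rw [← h6]
    exact map_bl g.2 _ _
  rw [e1, e6]

end Cfsg.Agent.H937.G24
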