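import Mathlib

/-!
# A group of operators of shape `2^{2+4}:3` (helper937)

`K` a field with four elements; `r : K → Γ`, `u : K × K → Γ`, `h : Kˣ → Γ` as in `Q ∩ SU₃(4)` and the torus.
In a representation `ρ` over a field with `2 ≠ 0`, `ρ (r b) ≠ 1` for some `b`: the 144 operators `h z · E a · u i` are
linearly independent; so `dim ≥ 12`; in dimension 12 they span, and the operators commuting with all `u i`, `r b` are
combinations of the `r b`.
-/

set_option autoImplicit false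
set_option linter.unusedSectionVars false

namespace Cfsg.Agent.H937.G24

open Module

/-- the relations -/
structure Heis (K : Type*) [Field K] {Γ : Type*} [Group Γ] (r : K → Γ) (u : K × K → Γ) (h : Kˣ → Γ) (c : K) : Prop where
  r_add : ∀ a b, r (a + b) = r a * r b
  r_zero : r 0 = 1
  ru : ∀ b i, r b * u i = u i * r b
  u_zero : u 0 = 1
  c_ne : c ≠ 0
  uu : ∀ i j, u i * u j = r (c * (i.2 * j.1 + i.1 * j.2)) * (u j * u i)
  hr : ∀ z b, h z * r b = r ((z : K) ^ 2 * b) * h z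

variable {K : Type*} [Field K] [Fintype K] [CharP K 2] {Γ : Type*} [Group Γ] {r : K → Γ} {u : K × K → Γ} {h : Kˣ → Γ}
  {c : K} {k : Type*} [Field k] {V : Type*} [AddCommGroup V] [Module k V] (ρ : Γ →* Module.End k V) (ψ : AddChar K k)

/-- the idempotents -/
noncomputable def Ei (r : K → Γ) (a : K) : Module.End k V := (4 : k)⁻¹ • ∑ b : K, ψ (a * b) • ρ (r b)

variable (H : Heis K r u h c) (hψ : ψ.IsPrimitive) (h2 : (2 : k) ≠ 0) (h4 : Fintype.card K = 4)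

omit [Fintype K] in
theorem psi_sq (a : K) : ψ a * ψ a = 1 := by
  rw [← AddChar.map_add_eq_mul, CharTwo.add_self_eq_zero, AddChar.map_zero_eq_one]

theorem four_ne {k : Type*} [Field k] (h2 : (2 : k) ≠ 0) : (4 : k) ≠ 0 := by
  have : (4 : k) = 2 * 2 := by norm_num
  rw [this]
  exact mul_ne_zero h2 h2

include H

theorem r_Ei (a b : K) : ρ (r b) * Ei ρ ψ r a = ψ (a * b) • Ei ρ ψ r a := by
  have h1 : ∀ x : K, ρ (r b) * (ψ (a * x) • ρ (r x)) = ψ (a * b) • (ψ (a * (b + x)) • ρ (r (b + x))) := by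
    intro x
    rw [mul_smul_comm, ← map_mul, ← H.r_add, smul_smul, mul_add, AddChar.map_add_eq_mul, ← mul_assoc, psi_sq, one_mul]
  unfold Ei
  rw [mul_smul_comm, smul_comm (ψ (a * b))]
  congr 1
  rw [Finset.mul_sum, Finset.smul_sum, Finset.sum_congr rfl fun x _ => h1 x]
  exact Equiv.sum_comp (Equiv.addLeft b) (fun y => ψ (a * b) • (ψ (a * y) • ρ (r y)))

theorem Ei_r (a b : K) : Ei ρ ψ r a * ρ (r b) = ψ (a * b) • Ei ρ ψ r a := by
  rw [← r_Ei ρ ψ H a b]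
  unfold Ei
  rw [smul_mul_assoc, mul_smul_comm, Finset.mul_sum, Finset.sum_mul]
  congr 1
  refine Finset.sum_congr rfl fun x _ => ?_
  rw [smul_mul_assoc, mul_smul_comm, ← map_mul, ← map_mul, ← H.r_add, ← H.r_add, add_comm]

include hψ h2 h4

theorem Ei_mul_aux (a a' : K) : Ei ρ ψ r a * Ei ρ ψ r a' = ((4 : k)⁻¹ * ∑ b : K, ψ (b * (a + a'))) • Ei ρ ψ r a := by
  have h3 : ∀ b : K, Ei ρ ψ r a * (ψ (a' * b) • ρ (r b)) = ψ (b * (a + a')) • Ei ρ ψ r a := by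
    intro b
    rw [mul_smul_comm, Ei_r ρ ψ H, smul_smul, ← AddChar.map_add_eq_mul]
    congr 2
    ring
  have h5 : Ei ρ ψ r a * Ei ρ ψ r a' = Ei ρ ψ r a * ((4 : k)⁻¹ • ∑ b : K, ψ (a' * b) • ρ (r b)) := rfl
  rw [h5, mul_smul_comm, Finset.mul_sum, Finset.sum_congr rfl fun b _ => h3 b, ← Finset.sum_smul, smul_smul]

theorem Ei_self (a : K) : Ei ρ ψ r a * Ei ρ ψ r a = Ei ρ ψ r a := by
  classical
  have h4' := four_ne h2
  rw [Ei_mul_aux ρ ψ H hψ h2 h4, AddChar.sum_mulShift (a + a) hψ, h4, if_pos (CharTwo.add_self_eq_zero a)]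
  push_cast
  rw [inv_mul_cancel₀ h4', one_smul]

theorem Ei_ne {a a' : K} (haa : a ≠ a') : Ei ρ ψ r a * Ei ρ ψ r a' = 0 := by
  classical
  rw [Ei_mul_aux ρ ψ H hψ h2 h4, AddChar.sum_mulShift (a + a') hψ, if_neg (fun h0 => haa (CharTwo.add_eq_zero.1 h0)),
    Nat.cast_zero, mul_zero, zero_smul]

theorem Ei_sum : ∑ a : K, Ei ρ ψ r a = 1 := by
  classical
  have h4' := four_ne h2
  unfold Ei
  rw [← Finset.smul_sum, Finset.sum_comm]
  have h1 : ∀ b : K, ∑ a : K, ψ (a * b) • ρ (r b) = if b = 0 then (4 : k) • (1 : Module.End k V) else 0 := by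
    intro b
    rw [← Finset.sum_smul, AddChar.sum_mulShift b hψ, h4]
    by_cases hb : b = 0
    · subst hb
      rw [if_pos rfl, if_pos rfl, H.r_zero, map_one]
      push_cast
      rfl
    · rw [if_neg hb, if_neg hb, Nat.cast_zero, zero_smul]
  rw [Finset.sum_congr rfl fun b _ => h1 b, Finset.sum_ite_eq' Finset.univ (0 : K), if_pos (Finset.mem_univ _), smul_smul,
    inv_mul_cancel₀ h4', one_smul]

omit hψ h2 h4 in
/-- operators commuting with the `r b` -/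
theorem Ei_comm {T : Module.End k V} (hT : ∀ b, T * ρ (r b) = ρ (r b) * T) (a : K) :
    T * Ei ρ ψ r a = Ei ρ ψ r a * T := by
  unfold Ei
  rw [mul_smul_comm, smul_mul_assoc, Finset.mul_sum, Finset.sum_mul]
  congr 1
  refine Finset.sum_congr rfl fun x _ => ?_
  rw [smul_mul_assoc, mul_smul_comm, hT]

omit hψ h2 h4 in
theorem Ei_u (a : K) (i : K × K) : ρ (u i) * Ei ρ ψ r a = Ei ρ ψ r a * ρ (u i) :=
  Ei_comm ρ ψ H (fun b => by rw [← map_mul, ← map_mul, H.ru]) a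

omit hψ h2 h4 in
theorem Ei_h (a : K) (z : Kˣ) : Ei ρ ψ r a * ρ (h z) = ρ (h z) * Ei ρ ψ r ((z : K) ^ 2 * a) := by
  have h1 : ∀ b : K, ρ (h z) * (ψ ((z : K) ^ 2 * a * b) • ρ (r b)) = (ψ (a * ((z : K) ^ 2 * b)) • ρ (r ((z : K) ^ 2 * b))) * ρ (h z) := by
    intro b
    rw [mul_smul_comm, smul_mul_assoc, ← map_mul, ← map_mul, H.hr]
    congr 2
    ring
  unfold Ei
  rw [mul_smul_comm, smul_mul_assoc, Finset.mul_sum, Finset.sum_mul, Finset.sum_congr rfl fun b _ => h1 b]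
  congr 1
  have hz : (z : K) ^ 2 ≠ 0 := pow_ne_zero _ z.ne_zero
  exact (Equiv.sum_comp (Equiv.mulLeft₀ ((z : K) ^ 2) hz) (fun y => (ψ (a * y) • ρ (r y)) * ρ (h z))).symm

omit hψ h2 h4 in
/-- the commutator on `E a V` -/
theorem uu_Ei (a : K) (i j : K × K) : ρ (u i) * ρ (u j) * Ei ρ ψ r a =
    ψ (a * (c * (i.2 * j.1 + i.1 * j.2))) • (ρ (u j) * ρ (u i) * Ei ρ ψ r a) := by
  rw [← map_mul, H.uu, map_mul, mul_assoc, map_mul, mul_assoc, Ei_u ρ ψ H, ← mul_assoc (ρ (u j)), Ei_u ρ ψ H, ← mul_assoc,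
    ← mul_assoc, r_Ei ρ ψ H, smul_mul_assoc, smul_mul_assoc]

theorem sum_B_aux {a : K} (i : K × K) : ∑ j : K × K, ψ (a * (c * (i.2 * j.1 + i.1 * j.2))) =
    (∑ x : K, ψ (x * (a * c * i.2))) * ∑ x : K, ψ (x * (a * c * i.1)) := by
  have h1 : ∀ j : K × K, ψ (a * (c * (i.2 * j.1 + i.1 * j.2))) = ψ (j.1 * (a * c * i.2)) * ψ (j.2 * (a * c * i.1)) := by
    intro j
    rw [← AddChar.map_add_eq_mul]
    congr 1
    ring
  rw [Finset.sum_congr rfl fun j _ => h1 j, Fintype.sum_prod_type]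
  simp only
  rw [← Finset.sum_mul_sum]

/-- the character sum -/
theorem sum_B_ne {a : K} (ha : a ≠ 0) {i : K × K} (hi : i ≠ 0) :
    ∑ j : K × K, ψ (a * (c * (i.2 * j.1 + i.1 * j.2))) = 0 := by
  classical
  have hac : a * c ≠ 0 := mul_ne_zero ha H.c_ne
  rw [sum_B_aux ψ H hψ h2 h4, AddChar.sum_mulShift _ hψ, AddChar.sum_mulShift _ hψ]
  by_cases e2 : i.2 = 0
  · have e1 : i.1 ≠ 0 := fun e1 => hi (Prod.ext e1 e2)
    rw [if_neg (mul_ne_zero hac e1), Nat.cast_zero, mul_zero]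
  · rw [if_neg (mul_ne_zero hac e2), Nat.cast_zero, zero_mul]

theorem sum_B_zero {a : K} : ∑ j : K × K, ψ (a * (c * ((0 : K × K).2 * j.1 + (0 : K × K).1 * j.2))) = 16 := by
  classical
  rw [sum_B_aux ψ H hψ h2 h4, Prod.snd_zero, Prod.fst_zero, mul_zero, AddChar.sum_mulShift _ hψ, if_pos rfl, h4]
  norm_num

omit hψ h2 h4 in
theorem u_inv (i : K × K) : ρ (u i) * ρ (u i)⁻¹ = 1 ∧ ρ (u i)⁻¹ * ρ (u i) = 1 := by
  constructor <;> rw [← map_mul] <;> simp

/-- **extraction of a coefficient** -/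
theorem extract {a : K} (ha : a ≠ 0) (g : K × K → k) (i₀ : K × K) (hg : Ei ρ ψ r a * ∑ i, g i • ρ (u i) = 0)
    (hE : Ei ρ ψ r a ≠ 0) : g i₀ = 0 := by
  classical
  -- the character of `i`
  have hB : ∀ i j : K × K, Ei ρ ψ r a * (ρ (u j) * ρ (u i) * ρ (u j)⁻¹) =
      ψ (a * (c * (i.2 * j.1 + i.1 * j.2))) • (Ei ρ ψ r a * ρ (u i)) := by
    intro i j
    have h1 := uu_Ei ρ ψ H a j i
    have h3 : c * (j.2 * i.1 + j.1 * i.2) = c * (i.2 * j.1 + i.1 * j.2) := by ring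
    rw [h3] at h1
    have h6 : ∀ i j, ρ (u i) * ρ (u j) * Ei ρ ψ r a = Ei ρ ψ r a * ρ (u i) * ρ (u j) := by
      intro i j
      rw [mul_assoc, Ei_u ρ ψ H, ← mul_assoc, Ei_u ρ ψ H]
    have h5 : Ei ρ ψ r a * (ρ (u j) * ρ (u i) * ρ (u j)⁻¹) = (ρ (u j) * ρ (u i) * Ei ρ ψ r a) * ρ (u j)⁻¹ := by
      rw [h6]
      simp only [mul_assoc]
    rw [h5, h1, h6, smul_mul_assoc, mul_assoc _ (ρ (u j)), (u_inv ρ H j).1, mul_one]
  -- average
  have h7 : ∑ j : K × K, ψ (a * (c * (i₀.2 * j.1 + i₀.1 * j.2))) •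
      (ρ (u j) * (Ei ρ ψ r a * ∑ i, g i • ρ (u i)) * ρ (u j)⁻¹) = (16 * g i₀) • (Ei ρ ψ r a * ρ (u i₀)) := by
    have h8 : ∀ j : K × K, ρ (u j) * (Ei ρ ψ r a * ∑ i, g i • ρ (u i)) * ρ (u j)⁻¹ =
        ∑ i, (g i * ψ (a * (c * (i.2 * j.1 + i.1 * j.2)))) • (Ei ρ ψ r a * ρ (u i)) := by
      intro j
      rw [← mul_assoc, Ei_u ρ ψ H, mul_assoc, mul_assoc, Finset.sum_mul, Finset.mul_sum, Finset.mul_sum]
      refine Finset.sum_congr rfl fun i _ => ?_
      rw [smul_mul_assoc, mul_smul_comm, mul_smul_comm, ← mul_assoc (ρ (u j)), hB, smul_smul]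
    rw [Finset.sum_congr rfl fun j _ => by rw [h8 j, Finset.smul_sum], Finset.sum_comm]
    rw [Finset.sum_eq_single i₀]
    · have h9 : ∀ j : K × K, ψ (a * (c * (i₀.2 * j.1 + i₀.1 * j.2))) •
          (g i₀ * ψ (a * (c * (i₀.2 * j.1 + i₀.1 * j.2)))) • (Ei ρ ψ r a * ρ (u i₀)) =
          g i₀ • (Ei ρ ψ r a * ρ (u i₀)) := by
        intro j
        rw [smul_smul, mul_left_comm, psi_sq, mul_one]
      rw [Finset.sum_congr rfl fun j _ => h9 j, Finset.sum_const, Finset.card_univ, Fintype.card_prod, h4, ← Nat.cast_smul_eq_nsmul k,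
        smul_smul]
      norm_num
    · intro i _ hi
      have h9 : ∀ j : K × K, ψ (a * (c * (i₀.2 * j.1 + i₀.1 * j.2))) •
          (g i * ψ (a * (c * (i.2 * j.1 + i.1 * j.2)))) • (Ei ρ ψ r a * ρ (u i)) =
          (g i * ψ (a * (c * ((i₀ + i).2 * j.1 + (i₀ + i).1 * j.2)))) • (Ei ρ ψ r a * ρ (u i)) := by
        intro j
        rw [smul_smul, mul_left_comm, ← AddChar.map_add_eq_mul, Prod.snd_add, Prod.fst_add]
        congr 3
        ring
      rw [Finset.sum_congr rfl fun j _ => h9 j, ← Finset.sum_smul, ← Finset.mul_sum,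
        sum_B_ne ψ H hψ h2 h4 ha (fun h0 => hi (by
          have h10 := Prod.ext_iff.1 h0
          exact Prod.ext (CharTwo.add_eq_zero.1 h10.1).symm (CharTwo.add_eq_zero.1 h10.2).symm)), mul_zero, zero_smul]
    · intro h0
      exact absurd (Finset.mem_univ _) h0
  rw [hg] at h7
  simp only [mul_zero, zero_mul, smul_zero, Finset.sum_const_zero] at h7
  have h8 : Ei ρ ψ r a * ρ (u i₀) ≠ 0 := by
    intro h0
    apply hE
    have := congrArg (fun X => X * ρ (u i₀)⁻¹) h0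
    simp only [zero_mul] at this
    rwa [mul_assoc, (u_inv ρ H i₀).1, mul_one] at this
  have h9 := (smul_eq_zero.1 h7.symm).resolve_right h8
  have h16 : (16 : k) ≠ 0 := by
    have : (16 : k) = 4 * 4 := by norm_num
    rw [this]
    exact mul_ne_zero (four_ne h2) (four_ne h2)
  exact (mul_eq_zero.1 h9).resolve_left h16

end Cfsg.Agent.H937.G24
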