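import Cfsg.Agent.H937.G24.Heis

/-!
# A group of operators of shape `2^{2+4}:3`: the dimension and the commutant (helper937)
-/

set_option autoImplicit false
set_option linter.unusedSectionVars false

namespace Cfsg.Agent.H937.G24

open Module

variable {K : Type*} [Field K] [Fintype K] [DecidableEq K] [CharP K 2] {Γ : Type*} [Group Γ] {r : K → Γ} {u : K × K → Γ} {h : Kˣ → Γ}
  {c : K} {k : Type*} [Field k] {V : Type*} [AddCommGroup V] [Module k V] (ρ : Γ →* Module.End k V) (ψ : AddChar K k)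

theorem rho_inv (g : Γ) : ρ g * ρ g⁻¹ = 1 ∧ ρ g⁻¹ * ρ g = 1 := by
  constructor <;> rw [← map_mul] <;> simp

variable (H : Heis K r u h c) (hψ : ψ.IsPrimitive) (h2 : (2 : k) ≠ 0) (h4 : Fintype.card K = 4)

include H hψ h2 h4

theorem Ei_ne_zero (hnt : ∃ b, ρ (r b) ≠ 1) {a : K} (ha : a ≠ 0) : Ei ρ ψ r a ≠ 0 := by
  intro h0
  obtain ⟨b, hb⟩ := hnt
  have h1 : ∀ a' : K, a' ≠ 0 → Ei ρ ψ r a' = 0 := by
    intro a' ha'
    have hne : a' / a ≠ 0 := div_ne_zero ha' ha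
    let z : Kˣ := Units.mk0 ((a' / a) ^ 2) (pow_ne_zero _ hne)
    have hz : (z : K) ^ 2 * a = a' := by
      have h3 : (a' / a) ^ 4 = a' / a := by
        have := FiniteField.pow_card (a' / a)
        rwa [h4] at this
      show ((a' / a) ^ 2) ^ 2 * a = a'
      rw [← pow_mul, h3, div_mul_cancel₀ _ ha]
    have h5 := Ei_h ρ ψ H a z
    rw [h0, zero_mul, hz] at h5
    have h6 := congrArg (fun X => ρ (h z)⁻¹ * X) h5
    simp only [mul_zero] at h6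
    rw [← mul_assoc, (rho_inv ρ (h z)).2, one_mul] at h6
    exact h6.symm
  have h3 : Ei ρ ψ r (0 : K) = 1 := by
    rw [← Ei_sum ρ ψ H hψ h2 h4]
    exact (Finset.sum_eq_single (0 : K) (fun a' _ ha' => h1 a' ha') (fun h => absurd (Finset.mem_univ _) h)).symm
  apply hb
  have h5 := r_Ei ρ ψ H 0 b
  rw [h3, mul_one, zero_mul, AddChar.map_zero_eq_one, one_smul] at h5
  exact h5

/-- the family of 144 operators -/
noncomputable def fam (r : K → Γ) (u : K × K → Γ) (h : Kˣ → Γ) (x : Kˣ × Kˣ × (K × K)) : Module.End k V :=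
  ρ (h x.1) * Ei ρ ψ r (x.2.1 : K) * ρ (u x.2.2)

theorem fam_one (a₁ a₀ : K) (x : Kˣ × Kˣ × (K × K)) : Ei ρ ψ r a₁ * fam ρ ψ r u h x * Ei ρ ψ r a₀ =
    if (x.1 : K) ^ 2 * a₁ = x.2.1 ∧ (x.2.1 : K) = a₀ then ρ (h x.1) * (Ei ρ ψ r a₀ * ρ (u x.2.2)) else 0 := by
  classical
  obtain ⟨z, a, i⟩ := x
  simp only [fam]
  have h1 : Ei ρ ψ r a₁ * (ρ (h z) * Ei ρ ψ r (a : K) * ρ (u i)) * Ei ρ ψ r a₀ =
      ρ (h z) * (Ei ρ ψ r ((z : K) ^ 2 * a₁) * Ei ρ ψ r (a : K)) * Ei ρ ψ r a₀ * ρ (u i) := by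
    have e1 := Ei_h ρ ψ H a₁ z
    have e2 := Ei_u ρ ψ H a₀ i
    calc Ei ρ ψ r a₁ * (ρ (h z) * Ei ρ ψ r (a : K) * ρ (u i)) * Ei ρ ψ r a₀
        = (Ei ρ ψ r a₁ * ρ (h z)) * Ei ρ ψ r (a : K) * (ρ (u i) * Ei ρ ψ r a₀) := by simp only [mul_assoc]
      _ = _ := by rw [e1, e2]; simp only [mul_assoc]
  rw [h1]
  by_cases e1 : (z : K) ^ 2 * a₁ = a
  · by_cases e2 : (a : K) = a₀
    · rw [if_pos ⟨e1, e2⟩, e1, e2, Ei_self ρ ψ H hψ h2 h4, mul_assoc (ρ (h z)), Ei_self ρ ψ H hψ h2 h4, mul_assoc]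
    · rw [if_neg (fun h => e2 h.2), e1, Ei_self ρ ψ H hψ h2 h4, mul_assoc (ρ (h z)), Ei_ne ρ ψ H hψ h2 h4 e2, mul_zero,
        zero_mul]
  · rw [if_neg (fun h => e1 h.1), Ei_ne ρ ψ H hψ h2 h4 e1, mul_zero, zero_mul, zero_mul]

theorem compress (g : Kˣ × Kˣ × (K × K) → k) {a₁ : K} {a₀ z₀ : Kˣ} (h1 : (z₀ : K) ^ 2 * a₁ = a₀) :
    Ei ρ ψ r a₁ * (∑ x, g x • fam ρ ψ r u h x) * Ei ρ ψ r (a₀ : K) =
      ρ (h z₀) * (Ei ρ ψ r (a₀ : K) * ∑ i, g (z₀, a₀, i) • ρ (u i)) := by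
  classical
  have hinj : ∀ z : Kˣ, (z : K) ^ 2 * a₁ = a₀ → z = z₀ := by
    intro z hz
    have ha₁ : a₁ ≠ 0 := by
      rintro rfl
      rw [mul_zero] at h1
      exact a₀.ne_zero h1.symm
    have h3 : (z : K) ^ 2 = (z₀ : K) ^ 2 := mul_right_cancel₀ ha₁ (hz.trans h1.symm)
    exact Units.ext (CharTwo.sq_injective h3)
  rw [Finset.mul_sum, Finset.sum_mul]
  have h3 : ∀ x : Kˣ × Kˣ × (K × K), Ei ρ ψ r a₁ * (g x • fam ρ ψ r u h x) * Ei ρ ψ r (a₀ : K) =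
      if x.1 = z₀ ∧ x.2.1 = a₀ then g x • (ρ (h x.1) * (Ei ρ ψ r (a₀ : K) * ρ (u x.2.2))) else 0 := by
    intro x
    rw [mul_smul_comm, smul_mul_assoc, fam_one ρ ψ H hψ h2 h4]
    by_cases e : x.1 = z₀ ∧ x.2.1 = a₀
    · rw [if_pos e, if_pos ⟨by rw [e.1, e.2]; exact h1, by rw [e.2]⟩]
    · rw [if_neg e, if_neg (fun h => e ?_), smul_zero]
      have e2 : x.2.1 = a₀ := Units.ext h.2
      exact ⟨hinj _ (by rw [h.1, e2]), e2⟩
  rw [Finset.sum_congr rfl fun x _ => h3 x, Fintype.sum_prod_type, Finset.sum_eq_single z₀, Fintype.sum_prod_type,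
    Finset.sum_eq_single a₀, Finset.mul_sum, Finset.mul_sum]
  · refine Finset.sum_congr rfl fun i _ => ?_
    rw [if_pos ⟨rfl, rfl⟩, mul_smul_comm, mul_smul_comm]
  · intro a _ ha
    exact Finset.sum_eq_zero fun i _ => if_neg fun h => ha h.2
  · intro h
    exact absurd (Finset.mem_univ _) h
  · intro z _ hz
    exact Finset.sum_eq_zero fun i _ => if_neg fun h => hz h.1
  · intro h
    exact absurd (Finset.mem_univ _) h

/-- **the 144 operators are linearly independent** -/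
theorem fam_indep (hnt : ∃ b, ρ (r b) ≠ 1) : LinearIndependent k (fam ρ ψ r u h) := by
  rw [Fintype.linearIndependent_iff]
  rintro g hg ⟨z₀, a₀, i₀⟩
  have h1 : (z₀ : K) ^ 2 * (((z₀ : K) ^ 2)⁻¹ * a₀) = a₀ := by
    rw [mul_inv_cancel_left₀ (pow_ne_zero _ z₀.ne_zero)]
  have h3 := compress ρ ψ H hψ h2 h4 g h1
  rw [hg, mul_zero, zero_mul] at h3
  have h5 := congrArg (fun X => ρ (h z₀)⁻¹ * X) h3
  simp only [mul_zero] at h5
  rw [← mul_assoc, (rho_inv ρ (h z₀)).2, one_mul] at h5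
  exact extract ρ ψ H hψ h2 h4 a₀.ne_zero (fun i => g (z₀, a₀, i)) i₀ h5.symm
    (Ei_ne_zero ρ ψ H hψ h2 h4 hnt a₀.ne_zero)

omit [CharP K 2] H hψ h2 in
theorem card_index : Fintype.card (Kˣ × Kˣ × (K × K)) = 144 := by
  classical
  rw [Fintype.card_prod, Fintype.card_prod, Fintype.card_prod, Fintype.card_units, h4]

theorem sq_ge [FiniteDimensional k V] (hnt : ∃ b, ρ (r b) ≠ 1) : 144 ≤ finrank k V * finrank k V := by
  have h1 := (fam_indep ρ ψ H hψ h2 h4 hnt).fintype_card_le_finrank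
  rwa [card_index h4, Module.finrank_linearMap] at h1

/-- **the dimension is at least 12** -/
theorem dim_ge [FiniteDimensional k V] (hnt : ∃ b, ρ (r b) ≠ 1) : 12 ≤ finrank k V := by
  have h1 := sq_ge ρ ψ H hψ h2 h4 hnt
  by_contra h3
  have h5 : finrank k V ≤ 11 := by omega
  have := Nat.mul_le_mul h5 h5
  omega

theorem fam_span [FiniteDimensional k V] (hnt : ∃ b, ρ (r b) ≠ 1) (h12 : finrank k V = 12) :
    Submodule.span k (Set.range (fam ρ ψ r u h)) = ⊤ := by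
  apply (fam_indep ρ ψ H hψ h2 h4 hnt).span_eq_top_of_card_eq_finrank'
  rw [card_index h4, Module.finrank_linearMap, h12]

theorem exists_coeff [FiniteDimensional k V] (hnt : ∃ b, ρ (r b) ≠ 1) (h12 : finrank k V = 12) (T : Module.End k V) :
    ∃ g : Kˣ × Kˣ × (K × K) → k, ∑ x, g x • fam ρ ψ r u h x = T := by
  have h1 : T ∈ Submodule.span k (Set.range (fam ρ ψ r u h)) := by
    rw [fam_span ρ ψ H hψ h2 h4 hnt h12]; trivial
  exact (Submodule.mem_span_range_iff_exists_fun k).1 h1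

theorem Ei_zero [FiniteDimensional k V] (hnt : ∃ b, ρ (r b) ≠ 1) (h12 : finrank k V = 12) :
    Ei ρ ψ r (0 : K) = 0 := by
  obtain ⟨g, hg⟩ := exists_coeff ρ ψ H hψ h2 h4 hnt h12 1
  have h1 : ∀ x : Kˣ × Kˣ × (K × K), Ei ρ ψ r (0 : K) * fam ρ ψ r u h x = 0 := by
    rintro ⟨z, a, i⟩
    simp only [fam]
    rw [← mul_assoc, ← mul_assoc, Ei_h ρ ψ H, mul_zero, mul_assoc (ρ (h z)), Ei_ne ρ ψ H hψ h2 h4 a.ne_zero.symm,
      mul_zero, zero_mul]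
  rw [← mul_one (Ei ρ ψ r (0 : K)), ← hg, Finset.mul_sum]
  exact Finset.sum_eq_zero fun x _ => by rw [mul_smul_comm, h1, smul_zero]

omit hψ h2 h4 in
/-- conjugation by `u j` -/
theorem conj_sum (a : K) (g : K × K → k) (j : K × K) : ρ (u j) * (Ei ρ ψ r a * ∑ i, g i • ρ (u i)) * ρ (u j)⁻¹ =
    Ei ρ ψ r a * ∑ i, (g i * ψ (a * (c * (i.2 * j.1 + i.1 * j.2)))) • ρ (u i) := by
  have hB : ∀ i j : K × K, Ei ρ ψ r a * (ρ (u j) * ρ (u i) * ρ (u j)⁻¹) =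
      ψ (a * (c * (i.2 * j.1 + i.1 * j.2))) • (Ei ρ ψ r a * ρ (u i)) := by
    intro i j
    have h1 := uu_Ei ρ ψ H a j i
    have h3 : c * (j.2 * i.1 + j.1 * i.2) = c * (i.2 * j.1 + i.1 * j.2) := by ring
    rw [h3] at h1
    have h6 : ∀ i j, ρ (u i) * ρ (u j) * Ei ρ ψ r a = Ei ρ ψ r a * ρ (u i) * ρ (u j) := by
      intro i j
      rw [mul_assoc, Ei_u ρ ψ H, ← mul_assoc, Ei_u ρ ψ H]
    have h5 : Ei ρ ψ r a * (ρ (u j) * ρ (u i) * ρ (u j)⁻¹) = (ρ (u j) * ρ (u i) * Ei ρ ψ r a) * ρ (u j)⁻¹ := by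
      rw [h6]
      simp only [mul_assoc]
    rw [h5, h1, h6, smul_mul_assoc, mul_assoc _ (ρ (u j)), (rho_inv ρ (u j)).1, mul_one]
  rw [← mul_assoc, Ei_u ρ ψ H, mul_assoc, mul_assoc, Finset.sum_mul, Finset.mul_sum, Finset.mul_sum, Finset.mul_sum]
  refine Finset.sum_congr rfl fun i _ => ?_
  rw [smul_mul_assoc, mul_smul_comm, mul_smul_comm, ← mul_assoc (ρ (u j)), hB, smul_smul, mul_smul_comm]

/-- an operator commuting with the `u i`, `r b` acts as a scalar on `E a V` -/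
theorem Ei_mul_T [FiniteDimensional k V] (hnt : ∃ b, ρ (r b) ≠ 1) (h12 : finrank k V = 12) (h1 : h 1 = 1)
    {T : Module.End k V} (hu : ∀ i, T * ρ (u i) = ρ (u i) * T) (hr : ∀ b, T * ρ (r b) = ρ (r b) * T) (a : Kˣ) :
    ∃ γ : k, Ei ρ ψ r (a : K) * T = γ • Ei ρ ψ r (a : K) := by
  classical
  obtain ⟨g, hg⟩ := exists_coeff ρ ψ H hψ h2 h4 hnt h12 T
  have h3 := compress ρ ψ H hψ h2 h4 g (a₁ := (a : K)) (a₀ := a) (z₀ := 1) (by rw [Units.val_one, one_pow, one_mul])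
  rw [hg, h1, map_one, one_mul, mul_assoc, Ei_comm ρ ψ H hr, ← mul_assoc, Ei_self ρ ψ H hψ h2 h4] at h3
  -- `h3 : E a T = E a ∑ g i u i`
  have h5 : ∀ i j : K × K, g (1, a, i) * ψ ((a : K) * (c * (i.2 * j.1 + i.1 * j.2))) = g (1, a, i) := by
    intro i j
    have h6 := conj_sum ρ ψ H (a : K) (fun i => g (1, a, i)) j
    have h9 : ρ (u j) * (Ei ρ ψ r (a : K) * T) * ρ (u j)⁻¹ = Ei ρ ψ r (a : K) * T := by
      rw [← mul_assoc, Ei_u ρ ψ H, mul_assoc (Ei ρ ψ r (a : K)), ← hu, mul_assoc, mul_assoc, (rho_inv ρ (u j)).1, mul_one]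
    rw [← h3, h9, h3] at h6
    have h7 : Ei ρ ψ r (a : K) * ∑ i, (g (1, a, i) * ψ ((a : K) * (c * (i.2 * j.1 + i.1 * j.2))) - g (1, a, i)) •
        ρ (u i) = 0 := by
      simp only [sub_smul]
      rw [Finset.sum_sub_distrib, mul_sub, ← h6, sub_self]
    have h8 := extract ρ ψ H hψ h2 h4 a.ne_zero _ i h7 (Ei_ne_zero ρ ψ H hψ h2 h4 hnt a.ne_zero)
    exact sub_eq_zero.1 h8
  have h6 : ∀ i : K × K, i ≠ 0 → g (1, a, i) = 0 := by
    intro i hi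
    by_contra hne
    have h7 : ∀ j : K × K, ψ ((a : K) * (c * (i.2 * j.1 + i.1 * j.2))) = 1 := fun j =>
      mul_left_cancel₀ hne ((h5 i j).trans (mul_one _).symm)
    have h8 := sum_B_ne ψ H hψ h2 h4 a.ne_zero hi
    rw [Finset.sum_congr rfl fun j _ => h7 j, Finset.sum_const, Finset.card_univ, Fintype.card_prod, h4] at h8
    have h16 : (16 : k) ≠ 0 := by
      have : (16 : k) = 4 * 4 := by norm_num
      rw [this]
      exact mul_ne_zero (four_ne h2) (four_ne h2)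
    apply h16
    rw [nsmul_eq_mul, mul_one] at h8
    norm_num at h8
    exact h8
  refine ⟨g (1, a, 0), ?_⟩
  rw [h3, Finset.sum_eq_single (0 : K × K) (fun i _ hi => by rw [h6 i hi, zero_smul])
    (fun h => absurd (Finset.mem_univ _) h), H.u_zero, map_one, mul_smul_comm, mul_one]

/-- **the commutant of `⟨u i, r b⟩` commutes with everything that commutes with the `r b`** -/
theorem commutant [FiniteDimensional k V] (hnt : ∃ b, ρ (r b) ≠ 1) (h12 : finrank k V = 12) (h1 : h 1 = 1)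
    {T : Module.End k V} (hu : ∀ i, T * ρ (u i) = ρ (u i) * T) (hr : ∀ b, T * ρ (r b) = ρ (r b) * T)
    {S : Module.End k V} (hS : ∀ b, S * ρ (r b) = ρ (r b) * S) : S * T = T * S := by
  classical
  have h3 : ∀ a : K, ∃ γ : k, Ei ρ ψ r a * T = γ • Ei ρ ψ r a := by
    intro a
    by_cases ha : a = 0
    · refine ⟨0, ?_⟩
      rw [ha, Ei_zero ρ ψ H hψ h2 h4 hnt h12, zero_mul, smul_zero]
    · exact Ei_mul_T ρ ψ H hψ h2 h4 hnt h12 h1 hu hr (Units.mk0 a ha)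
  have h5 : ∀ a : K, S * (Ei ρ ψ r a * T) = (Ei ρ ψ r a * T) * S := by
    intro a
    obtain ⟨γ, hγ⟩ := h3 a
    rw [hγ, mul_smul_comm, smul_mul_assoc, Ei_comm ρ ψ H hS]
  have h6 : T = ∑ a : K, Ei ρ ψ r a * T := by
    rw [← Finset.sum_mul, Ei_sum ρ ψ H hψ h2 h4, one_mul]
  rw [h6, Finset.mul_sum, Finset.sum_mul]
  exact Finset.sum_congr rfl fun a _ => h5 a

end Cfsg.Agent.H937.G24
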