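import Cfsg.Agent.H937.G24.Heis2

/-!
# The additive character of the field with four elements; generation (helper937)
-/

set_option autoImplicit false
set_option linter.unusedSectionVars false

namespace Cfsg.Agent.H937.G24

open Module

section psi

variable {K : Type*} [Field K] [Fintype K] [CharP K 2] (k : Type*) [Field k]

omit [Fintype K] [CharP K 2] in
theorem idem_cases {t : K} (ht : t ^ 2 = t) : t = 0 ∨ t = 1 := by
  have : t * (t - 1) = 0 := by linear_combination ht
  rcases mul_eq_zero.1 this with h | h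
  · exact Or.inl h
  · exact Or.inr (sub_eq_zero.1 h)

omit [CharP K 2] in
theorem tr4 [CharP K 2] (h4 : Fintype.card K = 4) (x : K) : x + x ^ 2 = 0 ∨ x + x ^ 2 = 1 := by
  apply idem_cases
  have h1 : x ^ 4 = x := by
    have := FiniteField.pow_card x
    rwa [h4] at this
  have h2 : (2 : K) = 0 := CharTwo.two_eq_zero
  linear_combination h1 + x ^ 3 * h2

open Classical in
/-- `x ↦ (-1)^(tr x)` -/
noncomputable def psi (h4 : Fintype.card K = 4) : AddChar K k where
  toFun x := if x + x ^ 2 = 0 then 1 else -1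
  map_zero_eq_one' := by simp
  map_add_eq_mul' := by
    intro x y
    have h2 : (2 : K) = 0 := CharTwo.two_eq_zero
    have e : (x + y) + (x + y) ^ 2 = (x + x ^ 2) + (y + y ^ 2) := by linear_combination x * y * h2
    rw [e]
    rcases tr4 h4 x with hx | hx <;> rcases tr4 h4 y with hy | hy <;> rw [hx, hy]
    · simp
    · simp
    · simp
    · have : (1 : K) + 1 = 0 := by rw [← h2]; norm_num
      rw [this]
      simp

theorem psi_primitive (h4 : Fintype.card K = 4) (h2 : (2 : k) ≠ 0) {n : K} (hn : n ^ 2 + n + 1 = 0) :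
    (psi k h4 : AddChar K k).IsPrimitive := by
  intro a ha h0
  have h1 := congrArg (fun f : AddChar K k => f (a⁻¹ * n)) h0
  simp only [AddChar.mulShift_apply, AddChar.one_apply] at h1
  rw [mul_inv_cancel_left₀ ha] at h1
  have h3 : n + n ^ 2 ≠ 0 := by
    intro h
    have h5 : (1 : K) = 0 := by linear_combination hn - h
    exact one_ne_zero h5
  have h5 : (psi k h4 : AddChar K k) n = -1 := if_neg h3
  rw [h5] at h1
  apply h2
  linear_combination -h1

end psi

variable {K : Type*} [Field K] [Fintype K] [DecidableEq K] [CharP K 2] {Γ : Type*} [Group Γ] {r : K → Γ} {u : K × K → Γ} {h : Kˣ → Γ}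
  {c : K} {k : Type*} [Field k] {V : Type*} [AddCommGroup V] [Module k V] (ρ : Γ →* Module.End k V) (ψ : AddChar K k)

theorem fam_mem (x : Kˣ × Kˣ × (K × K)) : fam ρ ψ r u h x ∈ Algebra.adjoin k (Set.range ρ) := by
  have h1 : ∀ g, ρ g ∈ Algebra.adjoin k (Set.range ρ) := fun g => Algebra.subset_adjoin ⟨g, rfl⟩
  unfold fam Ei
  exact mul_mem (mul_mem (h1 _) (Subalgebra.smul_mem _ (sum_mem fun b _ => Subalgebra.smul_mem _ (h1 _) _) _)) (h1 _)

theorem adjoin_top [FiniteDimensional k V] (H : Heis K r u h c) (hψ : ψ.IsPrimitive) (h2 : (2 : k) ≠ 0)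
    (h4 : Fintype.card K = 4) (hnt : ∃ b, ρ (r b) ≠ 1) (h12 : finrank k V = 12) :
    Algebra.adjoin k (Set.range ρ) = ⊤ := by
  rw [eq_top_iff]
  intro T _
  obtain ⟨g, rfl⟩ := exists_coeff ρ ψ H hψ h2 h4 hnt h12 T
  exact sum_mem fun x _ => Subalgebra.smul_mem _ (fam_mem ρ ψ x) _

end Cfsg.Agent.H937.G24
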