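import Cfsg.Agent.H937.G24.Fix
import Cfsg.Agent.H937.G24.Psi

/-!
# Rigidity of 12-dimensional representations of covers of `G₂(4)` (helper937)

`φ : P → AutO K` surjective with central kernel, `|K| = 4`, `s : LL → P` a section over `LL ≅ SU₃(4)`.

* `comm_sr` : the preimage of `QQ` centralises `s (r b)`;
* `comm_su` : its commutators with `s (u i)` are `s (r b) z`, `z² = 1`;
* **`rigid`** : `ρ, σ : P → End V`, `dim V = 12`, equal on `s LL` and on the involutions of the kernel: `ρ = σ`.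
-/

set_option autoImplicit false
set_option linter.unusedSectionVars false

namespace Cfsg.Agent.H937.G24

open Cfsg.Lie Cfsg.Agent.H161.Oct Cfsg.Agent.H148.Oct Module
open scoped commutatorElement

variable {K : Type*} [Field K] [CharP K 2] {n : K} (hn : n ^ 2 + n + 1 = 0)

/-- root elements in `LL` -/
noncomputable def rL (n : K) (b : K) : ↥(LL n (1 : K)) := ⟨rt b, rt_LL n 1 b⟩

/-- torus elements in `LL` -/
noncomputable def hL (n : K) (z : Kˣ) : ↥(LL n (1 : K)) := ⟨hh z, hh_LL n 1 z⟩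

/-- `u i` in `LL` -/
noncomputable def uL (i : K × K) : ↥(LL n (1 : K)) := ⟨qk n i, qk_LL hn i⟩

/-- the element of order five in `LL` -/
noncomputable def yL : ↥(LL n (1 : K)) := ⟨yy hn, yy_LL hn⟩

include hn in
theorem heisL : Heis K (rL n) (uL hn) (hL n) (n ^ 2) where
  r_add a b := Subtype.ext (rt_add a b)
  r_zero := Subtype.ext rt_zero
  ru b i := Subtype.ext (comm_rt (qk_QQ n i).1 b).symm
  u_zero := Subtype.ext (qk_zero n)
  c_ne := pow_ne_zero 2 (n_ne hn)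
  uu i j := Subtype.ext (qk_comm hn i j)
  hr z b := Subtype.ext (hh_rt z b)

theorem hL_one : hL n (1 : Kˣ) = 1 := Subtype.ext hh_one

variable {P : Type*} [Group P] {φ : P →* ↥(AutO K)} (hφ : Function.Surjective φ) (hker : φ.ker ≤ Subgroup.center P)
  {s : ↥(LL n (1 : K)) →* P} (hs : ∀ l, φ (s l) = l)

include hker in
theorem ker_comm {z : P} (hz : φ z = 1) (x : P) : x * z = z * x := Subgroup.mem_center_iff.1 (hker hz) x

include hn hφ hker hs in
/-- the preimage of `QQ` centralises the root elements -/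
theorem comm_sr [Finite ↥(AutO K)] [Finite K] (b : K) {x : P} (hx : φ x ∈ QQ K) :
    x * s (rL n b) = s (rL n b) * x := by
  let C : Subgroup ↥(AutO K) := (Subgroup.centralizer {s (rL n b)}).map φ
  have memC : ∀ x : P, x * s (rL n b) = s (rL n b) * x → φ x ∈ C := fun x hx =>
    ⟨x, Subgroup.mem_centralizer_singleton_iff.2 hx, rfl⟩
  have h1 : QQ K ≤ C := by
    refine QQ_le_of hn ?_ ?_
    · intro q hq
      obtain ⟨b', rfl⟩ := mem_RR_iff.1 hq
      have h3 : φ (s (rL n b')) = rt b' := hs _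
      rw [← h3]
      apply memC
      rw [← map_mul, ← map_mul]
      congr 1
      apply Subtype.ext
      change rt b' * rt b = rt b * rt b'
      rw [← rt_add, ← rt_add, add_comm]
    · intro q hq
      obtain ⟨x, rfl⟩ := hφ q
      have h3 : φ (s (yL hn)) = yy hn := hs _
      rw [← h3, ← map_mul, ← map_inv, ← map_mul, ← map_inv φ x, ← map_mul]
      apply memC
      -- `x r x⁻¹ = z r`
      set R := s (rL n b) with hR
      have h4 : φ (x * R * x⁻¹ * R⁻¹) = 1 := by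
        rw [map_mul, map_mul, map_mul, map_inv, map_inv, hR, hs]
        change φ x * rt b * (φ x)⁻¹ * (rt b)⁻¹ = 1
        rw [comm_rt hq.1 b]
        group
      obtain ⟨z, hz⟩ : ∃ z, z = x * R * x⁻¹ * R⁻¹ := ⟨_, rfl⟩
      rw [← hz] at h4
      have hzc := ker_comm hker h4
      have hy : s (yL hn) * R = R * s (yL hn) := by
        rw [hR, ← map_mul, ← map_mul]
        congr 1
        exact Subtype.ext (yy_rt hn b)
      have e1 : x * R = z * R * x := by rw [hz]; group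
      have e2 : x⁻¹ * R = z⁻¹ * R * x⁻¹ := by
        have : R * x = z⁻¹ * (x * R) := by rw [e1]; group
        calc x⁻¹ * R = x⁻¹ * (R * x) * x⁻¹ := by group
          _ = x⁻¹ * (z⁻¹ * (x * R)) * x⁻¹ := by rw [this]
          _ = (x⁻¹ * z⁻¹) * x * R * x⁻¹ := by group
          _ = _ := by
            have h5 : x⁻¹ * z⁻¹ = z⁻¹ * x⁻¹ := by
              rw [← mul_inv_rev, ← hzc x, mul_inv_rev]
            rw [h5]; group
      have e3 : (s (yL hn))⁻¹ * R = R * (s (yL hn))⁻¹ := by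
        rw [inv_mul_eq_iff_eq_mul, ← mul_assoc, hy, mul_inv_cancel_right]
      calc s (yL hn) * x * (s (yL hn))⁻¹ * x⁻¹ * R = s (yL hn) * x * (s (yL hn))⁻¹ * (x⁻¹ * R) := by group
        _ = s (yL hn) * x * (s (yL hn))⁻¹ * (z⁻¹ * R * x⁻¹) := by rw [e2]
        _ = s (yL hn) * x * ((s (yL hn))⁻¹ * z⁻¹) * R * x⁻¹ := by group
        _ = s (yL hn) * x * (z⁻¹ * (s (yL hn))⁻¹) * R * x⁻¹ := by
            rw [← mul_inv_rev, ← hzc, mul_inv_rev]
        _ = s (yL hn) * x * z⁻¹ * ((s (yL hn))⁻¹ * R) * x⁻¹ := by group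
        _ = s (yL hn) * (x * z⁻¹) * R * (s (yL hn))⁻¹ * x⁻¹ := by rw [e3]; group
        _ = s (yL hn) * (z⁻¹ * x) * R * (s (yL hn))⁻¹ * x⁻¹ := by
            congr 4
            rw [eq_inv_mul_iff_mul_eq, ← mul_assoc, ← hzc, mul_inv_cancel_right]
        _ = s (yL hn) * z⁻¹ * (x * R) * (s (yL hn))⁻¹ * x⁻¹ := by group
        _ = s (yL hn) * z⁻¹ * (z * R * x) * (s (yL hn))⁻¹ * x⁻¹ := by rw [e1]
        _ = (s (yL hn) * R) * x * (s (yL hn))⁻¹ * x⁻¹ := by group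
        _ = R * (s (yL hn) * x * (s (yL hn))⁻¹ * x⁻¹) := by rw [hy]; group
  obtain ⟨x', hx', e⟩ := h1 hx
  have h3 : φ (x'⁻¹ * x) = 1 := by rw [map_mul, map_inv, e, inv_mul_cancel]
  have h4 := ker_comm hker h3 (s (rL n b))
  have h5 := Subgroup.mem_centralizer_singleton_iff.1 hx'
  have h6 : x = x' * (x'⁻¹ * x) := by group
  rw [h6, mul_assoc, ← h4, ← mul_assoc, h5, mul_assoc]

include hn hφ hker hs in
/-- commutators with `s (u i)` -/
theorem comm_su [Finite ↥(AutO K)] [Finite K] (i : K × K) {x : P} (hx : φ x ∈ QQ K) :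
    ∃ (b : K) (z : P), φ z = 1 ∧ z * z = 1 ∧ x * s (uL hn i) = s (rL n b) * z * s (uL hn i) * x := by
  set U := s (uL hn i) with hU
  have hφU : φ U = qk n i := hs _
  have h1 : φ (x * U * x⁻¹ * U⁻¹) ∈ RR K := by
    rw [map_mul, map_mul, map_mul, map_inv, map_inv, hφU]
    exact QQ_comm hx (qk_QQ n i)
  obtain ⟨b, hb⟩ := mem_RR_iff.1 h1
  set R := s (rL n b) with hR
  have hφR : φ R = rt b := hs _
  obtain ⟨z, hz⟩ : ∃ z, z = R⁻¹ * (x * U * x⁻¹ * U⁻¹) := ⟨_, rfl⟩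
  have hz1 : φ z = 1 := by rw [hz, map_mul, map_inv, hb, hφR, inv_mul_cancel]
  have hzc := ker_comm hker hz1
  have e1 : x * U = R * z * U * x := by rw [hz]; group
  refine ⟨b, z, hz1, ?_, e1⟩
  -- `U² = s (r b')`
  obtain ⟨b', hb'⟩ := mem_RR_iff.1 (QQ_sq (qk_QQ n i))
  have hUU : U * U = s (rL n b') := by
    rw [hU, ← map_mul]
    congr 1
    exact Subtype.ext hb'
  have hxUU : x * (U * U) = (U * U) * x := by
    rw [hUU]
    exact comm_sr hn hφ hker hs b' hx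
  have hUR : U * R = R * U := by
    rw [hU, hR, ← map_mul, ← map_mul]
    congr 1
    exact Subtype.ext (comm_rt (qk_QQ n i).1 b)
  have hRR : R * R = 1 := by
    rw [hR, ← map_mul, show rL n b * rL n b = 1 from Subtype.ext (rt_self b), map_one]
  have h3 : x * (U * U) = (z * z) * ((U * U) * x) := by
    calc x * (U * U) = (x * U) * U := by group
      _ = (R * z * U * x) * U := by rw [e1]
      _ = R * z * U * (x * U) := by group
      _ = R * z * U * (R * z * U * x) := by rw [e1]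
      _ = R * z * (U * R) * z * U * x := by group
      _ = R * (z * R) * (U * z) * U * x := by rw [hUR]; group
      _ = R * (R * z) * (z * U) * U * x := by rw [hzc U, hzc R]
      _ = (R * R) * (z * z) * (U * U) * x := by group
      _ = (z * z) * ((U * U) * x) := by rw [hRR]; group
  rw [hxUU] at h3
  exact (mul_eq_right.1 h3.symm)

/-- **Rigidity.** -/
theorem rigid (hn : n ^ 2 + n + 1 = 0) [Finite ↥(AutO K)] [Fintype K] [DecidableEq K] (h4 : Fintype.card K = 4) [IsSimpleGroup ↥(AutO K)]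
    (hP : commutator P = ⊤) (hφ : Function.Surjective φ) (hker : φ.ker ≤ Subgroup.center P) (hs : ∀ l, φ (s l) = l)
    {k : Type*} [Field k] (h2 : (2 : k) ≠ 0) {V : Type*} [AddCommGroup V] [Module k V] [FiniteDimensional k V]
    (h12 : finrank k V = 12) {ρ σ : P →* Module.End k V} (hnt : ∃ b, ρ (s (rL n b)) ≠ 1)
    (hK : ∀ l, ρ (s l) = σ (s l)) (hZ : ∀ z, φ z = 1 → z * z = 1 → ρ z = σ z) : ρ = σ := by
  have hinv : ∀ (τ : P →* Module.End k V) (g : P), τ g * τ g⁻¹ = 1 ∧ τ g⁻¹ * τ g = 1 := fun τ g => rho_inv τ g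
  -- the operators `T`
  have hT : ∀ x : P, φ x ∈ QQ K → ρ (s (yL hn)) * (ρ x⁻¹ * σ x) = (ρ x⁻¹ * σ x) * ρ (s (yL hn)) := by
    intro x hx
    refine commutant (ρ.comp s) (psi k h4) (heisL hn) (psi_primitive k h4 h2 hn) h2 h4 hnt h12 hL_one ?_ ?_ ?_
    · intro i
      change ρ x⁻¹ * σ x * ρ (s (uL hn i)) = ρ (s (uL hn i)) * (ρ x⁻¹ * σ x)
      obtain ⟨b, z, hz, hzz, e⟩ := comm_su hn hφ hker hs i hx
      have e' : x⁻¹ * (s (rL n b) * z * s (uL hn i)) = s (uL hn i) * x⁻¹ := by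
        rw [inv_mul_eq_iff_eq_mul, ← mul_assoc, e, mul_inv_cancel_right]
      calc ρ x⁻¹ * σ x * ρ (s (uL hn i)) = ρ x⁻¹ * σ (x * s (uL hn i)) := by rw [hK, mul_assoc, map_mul]
        _ = ρ x⁻¹ * (σ (s (rL n b)) * σ z * σ (s (uL hn i)) * σ x) := by rw [e, map_mul, map_mul, map_mul]
        _ = ρ x⁻¹ * (ρ (s (rL n b)) * ρ z * ρ (s (uL hn i)) * σ x) := by rw [← hK, ← hK, hZ z hz hzz]
        _ = ρ (x⁻¹ * (s (rL n b) * z * s (uL hn i))) * σ x := by simp only [map_mul, mul_assoc]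
        _ = _ := by rw [e', map_mul, mul_assoc]
    · intro b
      change ρ x⁻¹ * σ x * ρ (s (rL n b)) = ρ (s (rL n b)) * (ρ x⁻¹ * σ x)
      have e := comm_sr hn hφ hker hs b hx
      have e' : x⁻¹ * s (rL n b) = s (rL n b) * x⁻¹ := by
        rw [inv_mul_eq_iff_eq_mul, ← mul_assoc, e, mul_inv_cancel_right]
      calc ρ x⁻¹ * σ x * ρ (s (rL n b)) = ρ x⁻¹ * σ (x * s (rL n b)) := by rw [hK, mul_assoc, map_mul]
        _ = ρ x⁻¹ * (ρ (s (rL n b)) * σ x) := by rw [e, map_mul, hK]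
        _ = ρ (x⁻¹ * s (rL n b)) * σ x := by rw [map_mul, mul_assoc]
        _ = _ := by rw [e', map_mul, mul_assoc]
    · intro b
      change ρ (s (yL hn)) * ρ (s (rL n b)) = ρ (s (rL n b)) * ρ (s (yL hn))
      rw [← map_mul, ← map_mul, ← map_mul, ← map_mul]
      congr 2
      exact Subtype.ext (yy_rt hn b)
  -- the subgroup where they agree
  let E : Subgroup P := ρ.eqLocus σ
  have memE : ∀ x, x ∈ E ↔ ρ x = σ x := fun x => Iff.rfl
  let C : Subgroup ↥(AutO K) := E.map φ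
  have hLC : LL n 1 ≤ C := by
    intro l hl
    exact ⟨s ⟨l, hl⟩, hK _, hs _⟩
  have hQC : QQ K ≤ C := by
    refine QQ_le_of hn ?_ ?_
    · intro q hq
      obtain ⟨b, rfl⟩ := mem_RR_iff.1 hq
      exact hLC (rt_LL n 1 b)
    · intro q hq
      obtain ⟨x, rfl⟩ := hφ q
      have h3 : φ (s (yL hn)) = yy hn := hs _
      rw [← h3, ← map_mul, ← map_inv, ← map_mul, ← map_inv φ x, ← map_mul]
      refine ⟨_, ?_, rfl⟩
      set Y := s (yL hn) with hY
      have hYK : ρ Y = σ Y := hK _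
      have hYK' : ρ Y⁻¹ = σ Y⁻¹ := by rw [hY, ← map_inv]; exact hK _
      have h5 := hT x hq
      have h6 : (ρ x⁻¹ * σ x) * ρ Y⁻¹ = ρ Y⁻¹ * (ρ x⁻¹ * σ x) := by
        calc (ρ x⁻¹ * σ x) * ρ Y⁻¹ = (ρ Y⁻¹ * ρ Y) * (ρ x⁻¹ * σ x) * ρ Y⁻¹ := by rw [(hinv ρ Y).2, one_mul]
          _ = ρ Y⁻¹ * (ρ Y * (ρ x⁻¹ * σ x)) * ρ Y⁻¹ := by simp only [mul_assoc]
          _ = ρ Y⁻¹ * (ρ x⁻¹ * σ x) * (ρ Y * ρ Y⁻¹) := by rw [h5]; simp only [mul_assoc]
          _ = _ := by rw [(hinv ρ Y).1, mul_one]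
      rw [SetLike.mem_coe, memE]
      have h7 : σ (Y * x * Y⁻¹ * x⁻¹) * σ x = ρ (Y * x * Y⁻¹ * x⁻¹) * σ x := by
        calc σ (Y * x * Y⁻¹ * x⁻¹) * σ x = σ Y * σ x * σ Y⁻¹ * (σ x⁻¹ * σ x) := by simp only [map_mul, mul_assoc]
          _ = ρ Y * σ x * ρ Y⁻¹ := by rw [(hinv σ x).2, mul_one, hYK, hYK']
          _ = ρ Y * ((ρ x * ρ x⁻¹) * σ x) * ρ Y⁻¹ := by rw [(hinv ρ x).1, one_mul]
          _ = ρ Y * ρ x * ((ρ x⁻¹ * σ x) * ρ Y⁻¹) := by simp only [mul_assoc]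
          _ = ρ Y * ρ x * (ρ Y⁻¹ * (ρ x⁻¹ * σ x)) := by rw [h6]
          _ = _ := by simp only [map_mul, mul_assoc]
      have h8 := congrArg (fun X => X * σ x⁻¹) h7
      simp only [mul_assoc] at h8
      rw [(hinv σ x).1, mul_one, mul_one] at h8
      simp only [mul_assoc]
      exact h8.symm
  have hC : C = ⊤ := gen hn hLC hQC
  have hdec : ∀ x : P, ∃ e ∈ E, ∃ z ∈ Subgroup.center P, x = e * z := by
    intro x
    have h1 : φ x ∈ C := by rw [hC]; trivial
    obtain ⟨e, he, hex⟩ := h1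
    refine ⟨e, he, e⁻¹ * x, hker ?_, by group⟩
    rw [MonoidHom.mem_ker, map_mul, map_inv, hex, inv_mul_cancel]
  have hE : commutator P ≤ E := by
    rw [commutator_def, Subgroup.commutator_le]
    intro a _ b _
    obtain ⟨a, ha, z, hz, rfl⟩ := hdec a
    obtain ⟨b, hb, w, hw, rfl⟩ := hdec b
    have hz' := Subgroup.mem_center_iff.1 hz
    have hw' := Subgroup.mem_center_iff.1 hw
    have e : ⁅a * z, b * w⁆ = ⁅a, b⁆ := by
      rw [commutatorElement_def, commutatorElement_def, mul_inv_rev, mul_inv_rev]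
      have e1 : a * z * (b * w) * (z⁻¹ * a⁻¹) * (w⁻¹ * b⁻¹) = a * (z * (b * w) * z⁻¹) * a⁻¹ * (w⁻¹ * b⁻¹) := by group
      rw [e1, ← hz' (b * w), mul_inv_cancel_right]
      have e2 : a * (b * w) * a⁻¹ * (w⁻¹ * b⁻¹) = a * b * (w * a⁻¹ * w⁻¹) * b⁻¹ := by group
      rw [e2, ← hw' a⁻¹, mul_inv_cancel_right]
    rw [e, commutatorElement_def]
    exact E.mul_mem (E.mul_mem (E.mul_mem ha hb) (E.inv_mem ha)) (E.inv_mem hb)
  ext1 x
  have : x ∈ E := hE (by rw [hP]; trivial)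
  exact this

end Cfsg.Agent.H937.G24
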