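import Cfsg.Agent.H937.G24.SUs
import Cfsg.Agent.H937.G24.Rig
import Cfsg.Agent.H905.PCover
import Cfsg.Agent.H61.PSUMult
import Cfsg.Agent.H920.Trace

/-!
# The lift of `LL` to central extensions of `G₂(4)` (helper937)
-/

set_option autoImplicit false
set_option linter.unusedSectionVars false

namespace Cfsg.Agent.H937.G24

open Cfsg.Lie Cfsg.Agent.H161.Oct Cfsg.Agent.H148.Oct Cfsg.Agent.H67 Function

/-- sections over perfect subgroups without perfect central extensions -/
theorem exists_section {T P : Type*} [Group T] [Group P] [Finite P] {φ : P →* T} (hφ : Surjective φ)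
    (hker : φ.ker ≤ Subgroup.center P) (M : Subgroup T) [Finite M] (hM : commutator M = ⊤)
    (hN : ∀ r : ℕ, r.Prime → NoPCov r M) : ∃ s : M →* P, ∀ m, φ (s m) = m := by
  let L : Subgroup P := M.comap φ
  let f : L →* M := (φ.comp L.subtype).codRestrict M (fun x => x.2)
  have hf : Surjective f := by
    rintro ⟨m, hm⟩
    obtain ⟨x, rfl⟩ := hφ m
    exact ⟨⟨x, hm⟩, rfl⟩
  have hk : f.ker ≤ Subgroup.center L := by
    intro x hx
    rw [Subgroup.mem_center_iff]
    intro y
    apply Subtype.ext
    have h1 : φ x.1 = 1 := congrArg Subtype.val hx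
    exact Subgroup.mem_center_iff.1 (hker h1) y
  obtain ⟨h1, h2⟩ := H905.PCover.commutator_perfect hM hf hk
  let f' : commutator L →* M := f.comp (commutator L).subtype
  have hf' : Surjective f' := by
    intro m
    have h3 : m ∈ (commutator L).map f := by rw [h2]; trivial
    obtain ⟨x, hx, e⟩ := h3
    exact ⟨⟨x, hx⟩, e⟩
  have hk' : f'.ker ≤ Subgroup.center (commutator L) := by
    intro x hx
    rw [Subgroup.mem_center_iff]
    intro y
    apply Subtype.ext
    exact Subgroup.mem_center_iff.1 (hk (show f x.1 = 1 from hx)) y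
  obtain ⟨p, hp1, hp⟩ := Nat.exists_infinite_primes (Nat.card f'.ker + 1)
  have hcop : (Nat.card f'.ker).Coprime p := by
    rw [Nat.coprime_comm, hp.coprime_iff_not_dvd]
    intro hd
    have := Nat.le_of_dvd Nat.card_pos hd
    omega
  obtain ⟨θ, -, e⟩ := H905.PCover.exists_hom_of_noPCov (p := p) hM (fun r hr _ => hN r hr) (πG := MonoidHom.id M)
    surjective_id (by
      intro x hx
      have : x = 1 := hx
      rw [this]
      exact one_mem _) h1 hf' hk' hp hcop
  refine ⟨L.subtype.comp ((commutator L).subtype.comp θ), fun m => ?_⟩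
  have h3 := congrArg (fun g : M →* M => g m) e
  exact congrArg Subtype.val h3

section

variable {K : Type} [Field K] [Fintype K] [CharP K 2] {n : K}

theorem perfect_LL (h4 : Fintype.card K = 4) (hn : n ^ 2 + n + 1 = 0) : commutator ↥(LL n (1 : K)) = ⊤ := by
  have := fact_ns h4 hn
  obtain ⟨e⟩ := LS_surj h4 hn
  have h1 := Cfsg.Agent.LieClassical.HermPerfect.commutator_SU_eq_top (F := EE16 n) (q := 4)
    (by rw [card_EE h4]; norm_num) (n := 3) le_rfl (by norm_num)
  have h3 := Subgroup.map_commutator (⊤ : Subgroup (Cfsg.SU 3 (EE16 n) 4)) ⊤ e.symm.toMonoidHom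
  rw [← commutator_def, h1, Subgroup.map_top_of_surjective _ e.symm.surjective] at h3
  exact h3.symm

omit [Fintype K] in
theorem charP_EE [Fact (∀ r : K, r ^ 2 ≠ n + 1 * r)] :
    CharP (EE16 n) 2 := by
  apply CharTwo.of_one_ne_zero_of_two_eq_zero one_ne_zero
  apply QuadraticAlgebra.ext
  · exact two_zero
  · rfl

theorem noPCov_LL (h4 : Fintype.card K = 4) (hn : n ^ 2 + n + 1 = 0) {r : ℕ} (hr : r.Prime) :
    NoPCov r ↥(LL n (1 : K)) := by
  have := fact_ns h4 hn
  have := charP_EE (n := n)
  obtain ⟨e⟩ := LS_surj h4 hn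
  have hF : Fintype.card (EE16 n) = 4 ^ 2 := by rw [card_EE h4]; norm_num
  have h1 : NoPCov r (Cfsg.SU 3 (EE16 n) 4) := by
    by_cases h : r = 2
    · subst h
      exact H61.PSUMult.noPCov_two hF le_rfl (by norm_num) (by norm_num) (by norm_num)
    · exact H61.PSUMult.noPCov_cross hF le_rfl Nat.prime_two hr h
  refine H61.PSUMult.noPCov_of_quot hr (π := e.toMonoidHom) e.surjective ?_ h1
  intro x hx
  have : x = 1 := e.injective (by rw [map_one]; exact hx)
  rw [this]
  exact one_mem _

theorem exists_root (h4 : Fintype.card K = 4) : ∃ n : K, n ^ 2 + n + 1 = 0 := by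
  classical
  have h1 : ∃ a : K, a ∉ ({0, 1} : Finset K) := by
    by_contra h
    push Not at h
    have h3 : (Finset.univ : Finset K) ⊆ {0, 1} := fun a _ => h a
    have := (Finset.card_le_card h3).trans Finset.card_le_two
    rw [Finset.card_univ, h4] at this
    omega
  obtain ⟨a, ha⟩ := h1
  rw [Finset.mem_insert, Finset.mem_singleton, not_or] at ha
  refine ⟨a, ?_⟩
  have h3 : a ^ 4 = a := by
    have := FiniteField.pow_card a
    rwa [h4] at this
  have h5 : a * ((a - 1) * (a ^ 2 + a + 1)) = 0 := by linear_combination h3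
  exact ((mul_eq_zero.1 ((mul_eq_zero.1 h5).resolve_left ha.1)).resolve_left (sub_ne_zero.2 ha.2))

theorem finite_AutO : Finite ↥(AutO K) := by
  have : Finite (V K ≃ₗ[K] V K) := Finite.of_injective (fun f => (f : V K → V K)) DFunLike.coe_injective
  infer_instance

/-- **the section over `LL`** -/
theorem exists_LL_section (h4 : Fintype.card K = 4) (hn : n ^ 2 + n + 1 = 0) {P : Type*} [Group P] [Finite P]
    {φ : P →* ↥(AutO K)} (hφ : Surjective φ) (hker : φ.ker ≤ Subgroup.center P) :
    ∃ s : ↥(LL n (1 : K)) →* P, ∀ l, φ (s l) = l := by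
  have : Finite ↥(AutO K) := finite_AutO
  exact exists_section hφ hker (LL n 1) (perfect_LL h4 hn) fun r hr => noPCov_LL h4 hn hr

end

theorem charP_two {K : Type*} [Field K] [Fintype K] (h4 : Fintype.card K = 4) : CharP K 2 := by
  apply CharTwo.of_one_ne_zero_of_two_eq_zero one_ne_zero
  have h1 := FiniteField.cast_card_eq_zero K
  rw [h4] at h1
  have h2 : (2 : K) * 2 = 0 := by
    have : ((4 : ℕ) : K) = 2 * 2 := by norm_num
    rw [← this, h1]
  exact mul_self_eq_zero.1 h2

end Cfsg.Agent.H937.G24
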