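import Cfsg.Agent.H937.G24.Yel

/-!
# The torus and the elements of `Q ∩ SU₃(4)` (helper937)
-/

set_option autoImplicit false
set_option linter.unusedSimpArgs false
set_option linter.unusedSectionVars false

namespace Cfsg.Agent.H937.G24

open Cfsg.Lie Cfsg.Agent.H161.Oct Cfsg.Agent.H148.Oct

variable {K : Type*} [Field K]

/-! ### the torus -/

/-- torus elements -/
noncomputable def hh (z : Kˣ) : ↥(AutO K) := ⟨dt (z : K) 1 ((z⁻¹ : Kˣ) : K) (by simp), dt_mem _⟩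

theorem hh_apply (z : Kˣ) (x : V K) : (hh z).1 x = dt (z : K) 1 ((z⁻¹ : Kˣ) : K) (by simp) x := rfl

theorem hh_mul (z z' : Kˣ) : hh (z * z') = hh z * hh z' := by
  apply val_ext
  intro x
  rw [val_mul, hh_apply, hh_apply, hh_apply]
  apply ext8 <;> simp only [dt0, dt1, dt2, dt3, dt4, dt5, dt6, dt7, mul_inv_rev, Units.val_mul] <;> ring

theorem hh_one : hh (1 : Kˣ) = 1 := by
  apply val_ext
  intro x
  rw [hh_apply]
  change _ = x
  apply ext8 <;> simp [dt0, dt1, dt2, dt3, dt4, dt5, dt6, dt7]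

theorem hh_rt (z : Kˣ) (b : K) : hh z * rt b = rt ((z : K) ^ 2 * b) * hh z := by
  apply val_ext
  intro x
  rw [val_mul, val_mul, hh_apply, hh_apply, rt_apply, rt_apply]
  have hz : (z : K) * ((z⁻¹ : Kˣ) : K) = 1 := by simp
  apply ext8 <;> simp only [dt0, dt1, dt2, dt3, dt4, dt5, dt6, dt7, ut0, ut1, ut2, ut3, ut4, ut5, ut6, ut7]
  · linear_combination (-(z : K) * b * x 3) * hz
  · ring
  · ring
  · linear_combination ((z : K) * b * x 4) * hz

theorem hh_LL (n t : K) (z : Kˣ) : hh z ∈ LL n t := by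
  rw [mem_LL, hh_apply]
  apply ext8 <;> simp [dt0, dt1, dt2, dt3, dt4, dt5, dt6, dt7, wp]

theorem rt_LL (n t : K) (b : K) : rt b ∈ LL n t := by
  rw [mem_LL, rt_apply]
  exact ut_of_perp b (perp_wp n t)

/-! ### elements of `QQ` -/

theorem ut_QQ (a b c : K) : (⟨ut a b c, ut_mem _ _ _⟩ : ↥(AutO K)) ∈ QQ K := by
  constructor
  · rintro x ⟨h0, h2, h3, h4, h5, h7⟩
    change ut a b c x = x
    apply ext8 <;> simp [ut0, ut1, ut2, ut3, ut4, ut5, ut6, ut7, h0, h2, h3, h4, h5, h7]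
  · rintro x ⟨h3, h4⟩
    change ut a b c x - x ∈ N0 K
    rw [mem_N0]
    simp [ut0, ut1, ut2, ut3, ut4, ut5, ut6, ut7, h3, h4]

theorem tau_QQ (s : K) : (⟨tau ![s, 0, 0], tau_mem _⟩ : ↥(AutO K)) ∈ QQ K := by
  constructor
  · rintro x ⟨h0, h2, h3, h4, h5, h7⟩
    change tau ![s, 0, 0] x = x
    rw [tau_apply]
    apply ext8 <;> simp [tau0, tau1, tau2, tau3, tau4, tau5, tau6, tau7, h0, h2, h3, h4, h5, h7]
  · rintro x ⟨h3, h4⟩
    change tau ![s, 0, 0] x - x ∈ N0 K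
    rw [tau_apply, mem_N0]
    simp [tau0, tau1, tau2, tau3, tau4, tau5, tau6, tau7, h3, h4]

theorem tl_QQ (s : K) : (⟨tl ![0, 0, s], tl_mem _⟩ : ↥(AutO K)) ∈ QQ K := by
  constructor
  · rintro x ⟨h0, h2, h3, h4, h5, h7⟩
    change tl ![0, 0, s] x = x
    apply ext8 <;> simp [tl0, tl1, tl2, tl3, tl4, tl5, tl6, tl7, h0, h2, h3, h4, h5, h7]
  · rintro x ⟨h3, h4⟩
    change tl ![0, 0, s] x - x ∈ N0 K
    rw [mem_N0]
    simp [tl0, tl1, tl2, tl3, tl4, tl5, tl6, tl7, h3, h4]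

/-- the elements of `QQ ∩ LL` -/
noncomputable def qk (n : K) (i : K × K) : ↥(AutO K) :=
  ⟨ut (i.2 * n + i.1) 0 ((i.1 + i.2) * n ^ 2), ut_mem _ _ _⟩ * ⟨tau ![i.1, 0, 0], tau_mem _⟩ *
    ⟨tl ![0, 0, i.2], tl_mem _⟩

theorem qk_QQ (n : K) (i : K × K) : qk n i ∈ QQ K :=
  (QQ K).mul_mem ((QQ K).mul_mem (ut_QQ _ _ _) (tau_QQ _)) (tl_QQ _)

theorem qk_apply (n : K) (i : K × K) (x : V K) :
    (qk n i).1 x = ut (i.2 * n + i.1) 0 ((i.1 + i.2) * n ^ 2) (tau ![i.1, 0, 0] (tl ![0, 0, i.2] x)) := rfl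

theorem qk_zero (n : K) : qk n 0 = 1 := by
  apply val_ext
  intro x
  rw [qk_apply]
  change _ = x
  apply ext8 <;> simp only [Prod.fst_zero, Prod.snd_zero, ut0, ut1, ut2, ut3, ut4, ut5, ut6, ut7, tau_apply, tau0, tau1, tau2,
    tau3, tau4, tau5, tau6, tau7, tl0, tl1, tl2, tl3, tl4, tl5, tl6, tl7, Matrix.cons_val_zero, Matrix.cons_val_one,
    Matrix.cons_val] <;> ring

section chartwo

variable [CharP K 2] {n : K} (hn : n ^ 2 + n + 1 = 0)

include hn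

theorem qk_LL (i : K × K) : qk n i ∈ LL n 1 := by
  have h2 := two_zero (K := K)
  rw [mem_LL, qk_apply]
  apply ext8 <;> simp [ut0, ut1, ut2, ut3, ut4, ut5, ut6, ut7, tau_apply, tau0, tau1, tau2, tau3, tau4, tau5, tau6, tau7,
    tl0, tl1, tl2, tl3, tl4, tl5, tl6, tl7, wp]
  · linear_combination i.1 * h2
  · linear_combination (-i.1 + i.1 * n - i.2 + i.2 * n) * hn + i.2 * h2

/-- commutators -/
theorem qk_comm (i j : K × K) : qk n i * qk n j = rt (n ^ 2 * (i.2 * j.1 + i.1 * j.2)) * (qk n j * qk n i) := by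
  have h2 := two_zero (K := K)
  obtain ⟨β, hβ⟩ := mem_RR_iff.1 (QQ_comm (qk_QQ n i) (qk_QQ n j))
  have h1 : qk n i * qk n j = rt β * (qk n j * qk n i) := by
    rw [← hβ]; group
  rw [h1]
  congr 2
  -- the first coordinate of the image of `e₃`
  have h3 := congrArg (fun g : ↥(AutO K) => g.1 (Pi.single 3 1) 1) h1
  simp only [val_mul, rt_apply, qk_apply] at h3
  simp [ut0, ut1, ut2, ut3, ut4, ut5, ut6, ut7, tau_apply, tau0, tau1, tau2, tau3, tau4, tau5, tau6, tau7,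
    tl0, tl1, tl2, tl3, tl4, tl5, tl6, tl7] at h3
  linear_combination (-1 : K) * h3 + (i.1 * j.2 - i.1 * j.2 * n - 3 * i.2 * j.1 + i.2 * j.1 * n) * hn +
    (-2 * i.1 * j.2 + 3 * i.2 * j.1 + i.2 * j.1 * n) * h2

omit hn in
theorem disc_ne : (1 : K) ^ 2 ≠ 4 * n := by
  have h2 := two_zero (K := K)
  intro h
  apply one_ne_zero (α := K)
  linear_combination h + 2 * n * h2

/-- `LL` and `QQ` generate -/
theorem gen [IsSimpleGroup ↥(AutO K)] {H : Subgroup ↥(AutO K)} (h1 : LL n 1 ≤ H) (h3 : QQ K ≤ H) : H = ⊤ := by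
  have hK : ∃ a : K, a ≠ 0 ∧ a ≠ 1 := by
    refine ⟨n, n_ne hn, ?_⟩
    rintro rfl
    have h2 := two_zero (K := K)
    apply one_ne_zero (α := K)
    linear_combination hn - h2
  rcases dichotomy hK (disc_ne (n := n)) h1 with h | h
  · exact h
  · exfalso
    have h4 := h (h3 (ut_QQ 1 0 0))
    rw [mem_MM_iff] at h4
    have h5 := h4.1
    change ut 1 0 0 (wp n 1) 1 = 0 at h5
    rw [ut1] at h5
    simp [wp] at h5

end chartwo

end Cfsg.Agent.H937.G24
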