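import Cfsg.Agent.H937.G24.Th
import Cfsg.Agent.H937.G24.Psi
import Cfsg.Agent.H881.U34.Psu
import Cfsg.Agent.H929.UThreeGeo
import Cfsg.Agent.H148.Oct.SepG2

/-!
# `LL ≅ SU₃(4)` (helper937)
-/

set_option autoImplicit false
set_option linter.unusedSimpArgs false
set_option linter.unusedSectionVars false

namespace Cfsg.Agent.H937.G24

open Cfsg.Lie Cfsg.Agent.H161.Oct Cfsg.Agent.H148.Oct Cfsg.Agent.H881.U34 Cfsg.Agent.H880

variable {K : Type*} [Field K] [Fintype K] [CharP K 2] {n : K}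

theorem fact_ns (h4 : Fintype.card K = 4) (hn : n ^ 2 + n + 1 = 0) : Fact (∀ r : K, r ^ 2 ≠ n + 1 * r) := by
  refine ⟨fun r hr => ?_⟩
  have h2 := two_zero (K := K)
  rcases tr4 h4 r with h | h
  · apply n_ne hn
    linear_combination h - hr - r * h2
  · have h1 : n = 1 := by linear_combination h - hr - r * h2
    rw [h1] at hn
    apply one_ne_zero (α := K)
    linear_combination hn - h2

noncomputable instance fintypeEE16 : Fintype (EE16 n) := Fintype.ofEquiv _ (QuadraticAlgebra.equivProd n 1).symm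

theorem card_EE (h4 : Fintype.card K = 4) : Fintype.card (EE16 n) = 16 := by
  rw [Fintype.card_congr (QuadraticAlgebra.equivProd n 1), Fintype.card_prod, h4]

theorem pow_four' (h4 : Fintype.card K = 4) (hn : n ^ 2 + n + 1 = 0) (x : EE16 n) : x ^ 4 = cj x := by
  have h2 := two_zero (K := K)
  have hp : ∀ a : K, a ^ 4 = a := fun a => by
    have := FiniteField.pow_card a
    rwa [h4] at this
  have ha := hp x.re
  have hb := hp x.im
  have e : x ^ 4 = (x * x) * (x * x) := by rw [← pow_two, ← pow_two, ← pow_mul]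
  rw [e]
  apply QuadraticAlgebra.ext
  · simp only [QuadraticAlgebra.re_mul, QuadraticAlgebra.im_mul, cj]
    linear_combination ha + x.im ^ 4 * hn - hb +
      (3 * n * x.re ^ 2 * x.im ^ 2 + 2 * n * x.re * x.im ^ 3 - x.im) * h2
  · simp only [QuadraticAlgebra.re_mul, QuadraticAlgebra.im_mul, cj]
    linear_combination hb + ((x.re ^ 2 + n * x.im ^ 2) * (2 * x.re * x.im + x.im ^ 2) +
      2 * x.re ^ 2 * x.im ^ 2 + 2 * x.re * x.im ^ 3) * h2

section

variable (g : ↥(LL n (1 : K)))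

theorem g_th_o (c : Fin 3 → EE16 n) : bl (g.1.1 (th c)) o = 0 := by
  have h1 : g.1.1 o = o := map_o g.1.2
  rw [← h1, map_bl g.1.2]
  exact bl_th_o c

theorem g_th_wp (c : Fin 3 → EE16 n) : bl (g.1.1 (th c)) (wp n 1) = 0 := by
  have h1 : g.1.1 (wp n 1) = wp n 1 := g.2
  rw [← h1, map_bl g.1.2]
  exact bl_th_wp c

theorem th_g (c : Fin 3 → EE16 n) : th (th' (g.1.1 (th c)) : Fin 3 → EE16 n) = g.1.1 (th c) :=
  th_th' (g_th_o g c) (g_th_wp g c)

end

variable [Fact (∀ r : K, r ^ 2 ≠ n + 1 * r)]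

/-- the linear maps -/
noncomputable def Lf (g : ↥(LL n (1 : K))) : (Fin 3 → EE16 n) →ₗ[EE16 n] (Fin 3 → EE16 n) where
  toFun c := th' (g.1.1 (th c))
  map_add' c d := by
    apply th_inj
    rw [th_g, th_add, th_add, map_add, th_g, th_g]
  map_smul' e c := by
    apply th_inj
    have h1 : g.1.1 (wp n 1) = wp n 1 := g.2
    rw [RingHom.id_apply, th_g, th_smul, th_smul, th_g, map_add, map_smul, map_smul, g.1.2, h1]

theorem th_Lf (g : ↥(LL n (1 : K))) (c : Fin 3 → EE16 n) : th (Lf g c) = g.1.1 (th c) := th_g g c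

theorem Lf_mul (g h : ↥(LL n (1 : K))) (c : Fin 3 → EE16 n) : Lf (g * h) c = Lf g (Lf h c) := by
  apply th_inj
  rw [th_Lf, th_Lf, th_Lf]
  rfl

theorem Lf_one (c : Fin 3 → EE16 n) : Lf (1 : ↥(LL n (1 : K))) c = c := by
  apply th_inj
  rw [th_Lf]
  rfl

/-- the homomorphism -/
noncomputable def LS (n : K) [Fact (∀ r : K, r ^ 2 ≠ n + 1 * r)] :
    ↥(LL n (1 : K)) →* ((Fin 3 → EE16 n) ≃ₗ[EE16 n] (Fin 3 → EE16 n)) where
  toFun g := LinearEquiv.ofLinearMap (Lf g) (Lf g⁻¹)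
    (LinearMap.ext fun c => by rw [LinearMap.comp_apply, ← Lf_mul, mul_inv_cancel, Lf_one]; rfl)
    (LinearMap.ext fun c => by rw [LinearMap.comp_apply, ← Lf_mul, inv_mul_cancel, Lf_one]; rfl)
  map_one' := LinearEquiv.ext fun c => Lf_one c
  map_mul' g h := LinearEquiv.ext fun c => Lf_mul g h c

theorem LS_apply (g : ↥(LL n (1 : K))) (c : Fin 3 → EE16 n) : LS n g c = Lf g c := rfl

/-! ### the form -/

theorem eq_of_im {z z' : EE16 n} (h : ∀ e : EE16 n, (e * z).im = (e * z').im) : z = z' := by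
  have h1 := h ⟨1, 0⟩
  have h3 := h ⟨0, 1⟩
  simp only [QuadraticAlgebra.im_mul] at h1 h3
  apply QuadraticAlgebra.ext
  · linear_combination h3 - h1
  · linear_combination h1

section

variable (h4 : Fintype.card K = 4) (hn : n ^ 2 + n + 1 = 0) {σ : EE16 n →+* EE16 n} (hσ : Fld σ)

include h4 hn hσ

theorem stB_im (c d : Fin 3 → EE16 n) : bl (th c) (th d) = (stB σ 3 c d).im := by
  rw [stB_apply, Fin.sum_univ_three, hσ.conj, hσ.conj, hσ.conj, pow_four' h4 hn, pow_four' h4 hn, pow_four' h4 hn]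
  exact bl_th c d

theorem LS_iso (g : ↥(LL n (1 : K))) (c d : Fin 3 → EE16 n) : stB σ 3 (LS n g c) (LS n g d) = stB σ 3 c d := by
  apply eq_of_im
  intro e
  have h1 : ∀ c d : Fin 3 → EE16 n, e * stB σ 3 c d = stB σ 3 c (e • d) := fun c d => by
    rw [map_smul, smul_eq_mul]
  rw [h1, h1, ← map_smul, ← stB_im h4 hn hσ, ← stB_im h4 hn hσ]
  change bl (th (Lf g c)) (th (Lf g (e • d))) = _
  rw [th_Lf, th_Lf, map_bl g.1.2]

end

theorem D3_smul (e : EE16 n) (c d x : Fin 3 → EE16 n) : e * D3 c d x = D3 c d (e • x) := by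
  simp only [D3, Pi.smul_apply, smul_eq_mul]
  ring

theorem D3_Lf (g : ↥(LL n (1 : K))) (c d x : Fin 3 → EE16 n) : D3 (Lf g c) (Lf g d) (Lf g x) = D3 c d x := by
  apply eq_of_im
  intro e
  rw [D3_smul, D3_smul, ← map_smul, ← tri_th, ← tri_th, th_Lf, th_Lf, th_Lf, ← g.1.2, map_bl g.1.2]

theorem det_LS (g : ↥(LL n (1 : K))) :
    LinearMap.det (LS n g : (Fin 3 → EE16 n) →ₗ[EE16 n] (Fin 3 → EE16 n)) = 1 := by
  rw [← LinearMap.det_toMatrix', Matrix.det_fin_three]
  simp only [LinearMap.toMatrix'_apply]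
  have h1 := D3_Lf g (Pi.single 0 1) (Pi.single 1 1) (Pi.single 2 1)
  have h3 : D3 (Pi.single 0 1 : Fin 3 → EE16 n) (Pi.single 1 1) (Pi.single 2 1) = 1 := by
    simp [D3]
  rw [h3] at h1
  refine Eq.trans ?_ h1
  simp only [LinearEquiv.coe_coe, LS_apply, D3]
  ring

theorem LS_inj : Function.Injective (LS n) := by
  intro g h hgh
  have h2 := two_zero (K := K)
  have e1 : ∀ c : Fin 3 → EE16 n, g.1.1 (th c) = h.1.1 (th c) := by
    intro c
    rw [← th_Lf, ← th_Lf, ← LS_apply, hgh, LS_apply]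
  have go : g.1.1 o = o := map_o g.1.2
  have ho : h.1.1 o = o := map_o h.1.2
  have gw : g.1.1 (wp n 1) = wp n 1 := g.2
  have hw : h.1.1 (wp n 1) = wp n 1 := h.2
  apply Subtype.ext
  apply val_ext
  intro x
  obtain ⟨y, hy⟩ : ∃ y, y = x + (bl x (wp n 1) • o + bl x o • wp n 1) := ⟨_, rfl⟩
  have y1 : bl y o = 0 := by
    rw [hy, bl_add', bl_add', bl_smul', bl_smul', bl_o (o : V K), tr_o, bl_o (wp n 1), tr_wp]
    linear_combination (bl x (wp n 1) + bl x o) * h2
  have y2 : bl y (wp n 1) = 0 := by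
    have e2 : bl (wp n (1 : K)) (wp n 1) = 2 * n := by simp [bl, wp]; ring
    rw [hy, bl_add', bl_add', bl_smul', bl_smul', bl_comm o, bl_o (wp n 1), tr_wp, e2]
    linear_combination (bl x (wp n 1) + n * bl x o) * h2
  have hx : x = y - (bl x (wp n 1) • o + bl x o • wp n 1) := by rw [hy]; abel
  have hyy : g.1.1 y = h.1.1 y := by
    rw [← th_th' y1 y2]
    exact e1 _
  rw [hx, map_sub, map_sub h.1.1, hyy, map_add, map_add h.1.1, map_smul, map_smul, map_smul, map_smul, go, ho, gw, hw]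

theorem LS_surj (h4 : Fintype.card K = 4) (hn : n ^ 2 + n + 1 = 0) :
    Nonempty (↥(LL n (1 : K)) ≃* Cfsg.SU 3 (EE16 n) 4) := by
  classical
  have hE := card_EE (n := n) h4
  have hσ := sig_fld hE
  have hS := su3 hσ
  let e : Cfsg.SU 3 (EE16 n) 4 ≃* (Lnat (EE16 n)).range := MonoidHom.ofInjective hS.inj
  let f : ↥(LL n (1 : K)) →* Cfsg.SU 3 (EE16 n) 4 := e.symm.toMonoidHom.comp
    ((LS n).codRestrict (Lnat (EE16 n)).range fun g => hS.surj _ (LS_iso h4 hn hσ g) (det_LS g))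
  have hf : Function.Injective f := by
    intro a b hab
    have h1 := e.symm.injective hab
    exact LS_inj (congrArg Subtype.val h1)
  have h2 := two_zero (K := K)
  have hK : ∃ a : K, a ≠ 0 ∧ a ≠ 1 := by
    refine ⟨n, n_ne hn, ?_⟩
    rintro rfl
    apply one_ne_zero (α := K)
    linear_combination hn - h2
  have hcL : Nat.card ↥(LL n (1 : K)) = 62400 := by
    have h1 := card_LL_mul hK (disc_ne (n := n))
    have h3 : (Finset.univ.filter fun α : K => α ^ 2 - 1 * α + n = 0) = ∅ := by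
      rw [Finset.filter_eq_empty_iff]
      intro a _ ha
      exact (fact_ns h4 hn).1 a (by linear_combination ha - n * h2)
    rw [card_Gam, h3, card_AutO, h4, Finset.card_empty] at h1
    norm_num at h1
    omega
  have hcS : Nat.card (Cfsg.SU 3 (EE16 n) 4) = 62400 := by
    rw [Cfsg.Agent.H929.U3.card_SU3 (q := 4) (by rw [hE]; norm_num)]
    norm_num
  have hfin : Finite (Cfsg.SU 3 (EE16 n) 4) := Nat.finite_of_card_ne_zero (by rw [hcS]; norm_num)
  have hbij : Function.Bijective f := (Nat.bijective_iff_injective_and_card f).2 ⟨hf, by rw [hcL, hcS]⟩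
  exact ⟨MulEquiv.ofBijective f hbij⟩

end Cfsg.Agent.H937.G24
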