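import Cfsg.Agent.H148.Oct.Count

/-!
# The short root `SL₂` in `G₂(K)` (octonions) (helper937)

`sh : SL₂(K) →* AutO K`, acting by conjugation on the quaternion subalgebra `DD` and naturally on `N0`.
-/

set_option autoImplicit false
set_option linter.unusedSimpArgs false

namespace Cfsg.Agent.H937.G24

open Cfsg.Lie Cfsg.Agent.H161.Oct Cfsg.Agent.H148.Oct

variable {K : Type*} [Field K]

/-- the action of a `2 × 2` matrix -/
def shF (A : Matrix (Fin 2) (Fin 2) K) (x : V K) : V K :=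
  ![(A 0 0 * x 0 + A 0 1 * x 5) * A 1 1 - (A 0 0 * x 2 + A 0 1 * x 7) * A 1 0,
    A 1 0 * x 6 + A 1 1 * x 1,
    -(A 0 0 * x 0 + A 0 1 * x 5) * A 0 1 + (A 0 0 * x 2 + A 0 1 * x 7) * A 0 0,
    -A 1 0 * x 4 + A 1 1 * x 3,
    A 0 0 * x 4 - A 0 1 * x 3,
    (A 1 0 * x 0 + A 1 1 * x 5) * A 1 1 - (A 1 0 * x 2 + A 1 1 * x 7) * A 1 0,
    A 0 0 * x 6 + A 0 1 * x 1,
    -(A 1 0 * x 0 + A 1 1 * x 5) * A 0 1 + (A 1 0 * x 2 + A 1 1 * x 7) * A 0 0]

section coord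

variable (A : Matrix (Fin 2) (Fin 2) K) (x : V K)

theorem sh0 : shF A x 0 = (A 0 0 * x 0 + A 0 1 * x 5) * A 1 1 - (A 0 0 * x 2 + A 0 1 * x 7) * A 1 0 := rfl
theorem sh1 : shF A x 1 = A 1 0 * x 6 + A 1 1 * x 1 := rfl
theorem sh2 : shF A x 2 = -(A 0 0 * x 0 + A 0 1 * x 5) * A 0 1 + (A 0 0 * x 2 + A 0 1 * x 7) * A 0 0 := rfl
theorem sh3 : shF A x 3 = -A 1 0 * x 4 + A 1 1 * x 3 := rfl
theorem sh4 : shF A x 4 = A 0 0 * x 4 - A 0 1 * x 3 := rfl
theorem sh5 : shF A x 5 = (A 1 0 * x 0 + A 1 1 * x 5) * A 1 1 - (A 1 0 * x 2 + A 1 1 * x 7) * A 1 0 := rfl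
theorem sh6 : shF A x 6 = A 0 0 * x 6 + A 0 1 * x 1 := rfl
theorem sh7 : shF A x 7 = -(A 1 0 * x 0 + A 1 1 * x 5) * A 0 1 + (A 1 0 * x 2 + A 1 1 * x 7) * A 0 0 := rfl

end coord

theorem shF_mul (A B : Matrix (Fin 2) (Fin 2) K) (x : V K) : shF (A * B) x = shF A (shF B x) := by
  apply ext8 <;> simp only [sh0, sh1, sh2, sh3, sh4, sh5, sh6, sh7, Matrix.mul_apply, Fin.sum_univ_two] <;> ring

theorem shF_one (x : V K) : shF 1 x = x := by
  apply ext8 <;> simp only [sh0, sh1, sh2, sh3, sh4, sh5, sh6, sh7, Matrix.one_apply_eq,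
    Matrix.one_apply_ne (show (0 : Fin 2) ≠ 1 by decide), Matrix.one_apply_ne (show (1 : Fin 2) ≠ 0 by decide)] <;> ring

theorem shF_add (A : Matrix (Fin 2) (Fin 2) K) (x y : V K) : shF A (x + y) = shF A x + shF A y := by
  apply ext8 <;> simp only [sh0, sh1, sh2, sh3, sh4, sh5, sh6, sh7, Pi.add_apply] <;> ring

theorem shF_smul (A : Matrix (Fin 2) (Fin 2) K) (c : K) (x : V K) : shF A (c • x) = c • shF A x := by
  apply ext8 <;> simp only [sh0, sh1, sh2, sh3, sh4, sh5, sh6, sh7, Pi.smul_apply, smul_eq_mul] <;> ring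

theorem shF_zorn {A : Matrix (Fin 2) (Fin 2) K} (hA : A 0 0 * A 1 1 - A 0 1 * A 1 0 = 1) (x y : V K) :
    shF A (zornMul x y) = zornMul (shF A x) (shF A y) := by
  apply ext8
  · simp only [sh0, sh1, sh2, sh3, sh4, sh5, sh6, sh7, mul0, mul1, mul2, mul3, mul4, mul5, mul6, mul7]
    linear_combination (-((A 0 0 * (x 0 * y 0 + x 2 * y 5) + A 0 1 * (y 0 * x 5 + x 7 * y 5)) * A 1 1 -
      (A 0 0 * (x 0 * y 2 + y 7 * x 2) + A 0 1 * (x 5 * y 2 + x 7 * y 7)) * A 1 0)) * hA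
  · simp only [sh0, sh1, sh2, sh3, sh4, sh5, sh6, sh7, mul0, mul1, mul2, mul3, mul4, mul5, mul6, mul7]
    linear_combination (-(A 1 0 * (y 0 * x 6 + x 7 * y 6 + (x 1 * y 2 - x 2 * y 1)) +
      A 1 1 * (x 0 * y 1 + y 7 * x 1 - (x 5 * y 6 - x 6 * y 5)))) * hA
  · simp only [sh0, sh1, sh2, sh3, sh4, sh5, sh6, sh7, mul0, mul1, mul2, mul3, mul4, mul5, mul6, mul7]
    linear_combination (-(-(A 0 0 * (x 0 * y 0 + x 2 * y 5) + A 0 1 * (y 0 * x 5 + x 7 * y 5)) * A 0 1 +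
      (A 0 0 * (x 0 * y 2 + y 7 * x 2) + A 0 1 * (x 5 * y 2 + x 7 * y 7)) * A 0 0)) * hA
  · simp only [sh0, sh1, sh2, sh3, sh4, sh5, sh6, sh7, mul0, mul1, mul2, mul3, mul4, mul5, mul6, mul7]
    linear_combination (-(-A 1 0 * (y 0 * x 4 + x 7 * y 4 + (x 2 * y 3 - x 3 * y 2)) +
      A 1 1 * (x 0 * y 3 + y 7 * x 3 - (x 4 * y 5 - x 5 * y 4)))) * hA
  · simp only [sh0, sh1, sh2, sh3, sh4, sh5, sh6, sh7, mul0, mul1, mul2, mul3, mul4, mul5, mul6, mul7]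
    linear_combination (-(A 0 0 * (y 0 * x 4 + x 7 * y 4 + (x 2 * y 3 - x 3 * y 2)) -
      A 0 1 * (x 0 * y 3 + y 7 * x 3 - (x 4 * y 5 - x 5 * y 4)))) * hA
  · simp only [sh0, sh1, sh2, sh3, sh4, sh5, sh6, sh7, mul0, mul1, mul2, mul3, mul4, mul5, mul6, mul7]
    linear_combination (-((A 1 0 * (x 0 * y 0 + x 2 * y 5) + A 1 1 * (y 0 * x 5 + x 7 * y 5)) * A 1 1 -
      (A 1 0 * (x 0 * y 2 + y 7 * x 2) + A 1 1 * (x 5 * y 2 + x 7 * y 7)) * A 1 0)) * hA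
  · simp only [sh0, sh1, sh2, sh3, sh4, sh5, sh6, sh7, mul0, mul1, mul2, mul3, mul4, mul5, mul6, mul7]
    linear_combination (-(A 0 0 * (y 0 * x 6 + x 7 * y 6 + (x 1 * y 2 - x 2 * y 1)) +
      A 0 1 * (x 0 * y 1 + y 7 * x 1 - (x 5 * y 6 - x 6 * y 5)))) * hA
  · simp only [sh0, sh1, sh2, sh3, sh4, sh5, sh6, sh7, mul0, mul1, mul2, mul3, mul4, mul5, mul6, mul7]
    linear_combination (-(-(A 1 0 * (x 0 * y 0 + x 2 * y 5) + A 1 1 * (y 0 * x 5 + x 7 * y 5)) * A 0 1 +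
      (A 1 0 * (x 0 * y 2 + y 7 * x 2) + A 1 1 * (x 5 * y 2 + x 7 * y 7)) * A 0 0)) * hA

theorem det_rel (A : Matrix.SpecialLinearGroup (Fin 2) K) : A.1 0 0 * A.1 1 1 - A.1 0 1 * A.1 1 0 = 1 := by
  have := A.2
  rwa [Matrix.det_fin_two] at this

/-- the short root `SL₂` -/
def sh : Matrix.SpecialLinearGroup (Fin 2) K →* ↥(AutO K) where
  toFun A := ⟨{ toFun := shF A.1
                map_add' := shF_add A.1
                map_smul' := shF_smul A.1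
                invFun := shF (A⁻¹).1
                left_inv := fun x => by
                  rw [← shF_mul, ← Matrix.SpecialLinearGroup.coe_mul, inv_mul_cancel,
                    Matrix.SpecialLinearGroup.coe_one, shF_one]
                right_inv := fun x => by
                  rw [← shF_mul, ← Matrix.SpecialLinearGroup.coe_mul, mul_inv_cancel,
                    Matrix.SpecialLinearGroup.coe_one, shF_one] },
    fun x y => shF_zorn (det_rel A) x y⟩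
  map_one' := Subtype.ext (LinearEquiv.ext fun x => shF_one x)
  map_mul' A B := Subtype.ext (LinearEquiv.ext fun x => shF_mul A.1 B.1 x)

theorem sh_apply (A : Matrix.SpecialLinearGroup (Fin 2) K) (x : V K) : (sh A).1 x = shF A.1 x := rfl

end Cfsg.Agent.H937.G24
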