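import Cfsg.Agent.H937.G24.Qk
import Mathlib.Algebra.QuadraticAlgebra.Basic

/-!
# The hermitian space `E^⊥` in the octonions over the field with four elements (helper937)

`E = K[ω]`, `ω² = ω + n`; `th : E³ → V K` with image the orthogonal complement of `⟨1, w⟩`, `w = wp n 1`:
`w (th c) = th (ω c)`, `⟨th c, th d⟩ = tr (∑ σ(cᵢ) dᵢ)`, `⟨th c th d, th e⟩ = tr det (c, d, e)`.
-/

set_option autoImplicit false
set_option linter.unusedSimpArgs false
set_option linter.unusedSectionVars false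

namespace Cfsg.Agent.H937.G24

open Cfsg.Lie Cfsg.Agent.H161.Oct Cfsg.Agent.H148.Oct

variable {K : Type*} [Field K] [CharP K 2] {n : K}

/-- the field with 16 elements -/
abbrev EE16 (n : K) : Type _ := QuadraticAlgebra K n 1

/-- the map `E³ → V K` -/
def th (c : Fin 3 → EE16 n) : V K :=
  ![(c 0).re + (c 0).im, (c 1).re + (c 2).re, (c 0).im, n * ((c 1).im + (c 2).im) + (c 2).re,
    (c 1).re + (c 2).re + ((c 1).im + (c 2).im) + (c 2).im, (c 0).re + (c 0).im + n * (c 0).im,
    (c 1).im + (c 2).im, (c 0).re + (c 0).im]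

section
variable (c d : Fin 3 → EE16 n)
theorem th0 : th c 0 = (c 0).re + (c 0).im := rfl
theorem th1 : th c 1 = (c 1).re + (c 2).re := rfl
theorem th2 : th c 2 = (c 0).im := rfl
theorem th3 : th c 3 = n * ((c 1).im + (c 2).im) + (c 2).re := rfl
theorem th4 : th c 4 = (c 1).re + (c 2).re + ((c 1).im + (c 2).im) + (c 2).im := rfl
theorem th5 : th c 5 = (c 0).re + (c 0).im + n * (c 0).im := rfl
theorem th6 : th c 6 = (c 1).im + (c 2).im := rfl
theorem th7 : th c 7 = (c 0).re + (c 0).im := rfl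
end

/-- the inverse map -/
def th' (x : V K) : Fin 3 → EE16 n :=
  ![⟨x 0 - x 2, x 2⟩, ⟨x 1 - x 3 + n * x 6, x 6 - x 4 + x 1 + x 6⟩, ⟨x 3 - n * x 6, x 4 - x 1 - x 6⟩]

theorem th'_th (c : Fin 3 → EE16 n) : th' (th c) = c := by
  funext i
  fin_cases i <;> apply QuadraticAlgebra.ext <;>
    simp [th', th0, th1, th2, th3, th4, th5, th6, th7] <;> ring

theorem th_inj {c d : Fin 3 → EE16 n} (h : th c = th d) : c = d := by rw [← th'_th c, h, th'_th]

theorem th_th' {x : V K} (h1 : bl x o = 0) (h2 : bl x (wp n 1) = 0) : th (th' x : Fin 3 → EE16 n) = x := by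
  have h3 := two_zero (K := K)
  have e7 : x 7 = x 0 := by
    simp [bl, o0, o1, o2, o3, o4, o5, o6, o7] at h1
    linear_combination h1 - x 0 * h3
  have e5 : x 5 = x 0 + n * x 2 := by
    simp [bl, wp] at h2
    linear_combination (-1 : K) * h2
  apply ext8 <;> simp [th', th0, th1, th2, th3, th4, th5, th6, th7, e7, e5]

theorem bl_th_o (c : Fin 3 → EE16 n) : bl (th c) o = 0 := by
  have h3 := two_zero (K := K)
  simp [bl, o0, o1, o2, o3, o4, o5, o6, o7, th0, th1, th2, th3, th4, th5, th6, th7]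
  linear_combination ((c 0).re + (c 0).im) * h3

theorem bl_th_wp (c : Fin 3 → EE16 n) : bl (th c) (wp n 1) = 0 := by
  have h3 := two_zero (K := K)
  simp [bl, wp, th0, th1, th2, th3, th4, th5, th6, th7]
  ring

theorem th_add (c d : Fin 3 → EE16 n) : th (c + d) = th c + th d := by
  apply ext8 <;> simp only [th0, th1, th2, th3, th4, th5, th6, th7, Pi.add_apply, QuadraticAlgebra.re_add,
    QuadraticAlgebra.im_add] <;> ring

theorem th_smul (e : EE16 n) (c : Fin 3 → EE16 n) : th (e • c) = e.re • th c + e.im • zornMul (wp n 1) (th c) := by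
  have h2 := two_zero (K := K)
  apply ext8 <;> simp [th0, th1, th2, th3, th4, th5, th6, th7, mul0, mul1, mul2, mul3, mul4, mul5, mul6, mul7, wp]
  · ring
  · ring
  · ring
  · linear_combination ((c 1).im * e.im * n + (c 1).re * e.im * n + 2 * (c 2).im * e.im * n + (c 2).re * e.im * n) * h2
  · ring
  · linear_combination ((c 0).im * e.im * n + (c 0).re * e.im * n) * h2
  · linear_combination ((c 1).re * e.im + (c 2).re * e.im) * h2
  · linear_combination ((c 0).im * e.im * n) * h2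

/-- the conjugate -/
def cj (z : EE16 n) : EE16 n := ⟨z.re + z.im, z.im⟩

theorem bl_th (c d : Fin 3 → EE16 n) :
    bl (th c) (th d) = (cj (c 0) * d 0 + cj (c 1) * d 1 + cj (c 2) * d 2).im := by
  have h2 := two_zero (K := K)
  simp only [bl, th0, th1, th2, th3, th4, th5, th6, th7, cj, QuadraticAlgebra.im_add, QuadraticAlgebra.re_add,
    QuadraticAlgebra.im_mul, QuadraticAlgebra.re_mul]
  linear_combination (-(c 0).im * (d 0).im - (c 0).im * (d 0).im * n + (c 0).re * (d 0).re - (c 1).im * (d 1).im -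
    (c 1).im * (d 1).im * n - (c 1).im * (d 1).re - (c 1).im * (d 2).im * n - (c 1).im * (d 2).re - (c 1).re * (d
    1).im - (c 1).re * (d 1).re - (c 1).re * (d 2).im - (c 1).re * (d 2).re - (c 2).im * (d 1).im * n - (c 2).im * (d
    1).re - (c 2).im * (d 2).im - (c 2).im * (d 2).im * n - 2 * (c 2).im * (d 2).re - (c 2).re * (d 1).im - (c 2).re *
    (d 1).re - 2 * (c 2).re * (d 2).im - (c 2).re * (d 2).re) * h2

/-- the determinant -/
def D3 (c d e : Fin 3 → EE16 n) : EE16 n := c 0 * d 1 * e 2 - c 0 * d 2 * e 1 - c 1 * d 0 * e 2 + c 1 * d 2 * e 0 +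
  c 2 * d 0 * e 1 - c 2 * d 1 * e 0

theorem tri_th (c d e : Fin 3 → EE16 n) : bl (zornMul (th c) (th d)) (th e) = (D3 c d e).im := by
  have h2 := two_zero (K := K)
  simp only [bl, th0, th1, th2, th3, th4, th5, th6, th7, mul0, mul1, mul2, mul3, mul4, mul5, mul6, mul7, D3,
    QuadraticAlgebra.im_add, QuadraticAlgebra.re_add, QuadraticAlgebra.im_mul, QuadraticAlgebra.re_mul,
    QuadraticAlgebra.im_sub, QuadraticAlgebra.re_sub]
  linear_combination (-(c 0).im * (d 0).im * (e 0).im * n + (c 0).im * (d 0).im * (e 0).re + (c 0).im * (d 0).im *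
    (e 0).re * n - (c 0).im * (d 0).re * (e 0).im * n + (c 0).im * (d 0).re * (e 0).re - (c 0).im * (d 1).im * (e
    1).im * n - (c 0).im * (d 1).im * (e 2).im * n - (c 0).im * (d 1).im * (e 2).re - (c 0).im * (d 1).re * (e 1).im -
    (c 0).im * (d 1).re * (e 1).re - 2 * (c 0).im * (d 1).re * (e 2).im - (c 0).im * (d 1).re * (e 2).re - (c 0).im *
    (d 2).im * (e 1).im * n - (c 0).im * (d 2).im * (e 2).im * n - (c 0).im * (d 2).im * (e 2).re - (c 0).im * (d
    2).re * (e 1).im - (c 0).im * (d 2).re * (e 1).re - 2 * (c 0).im * (d 2).re * (e 2).im - (c 0).im * (d 2).re * (e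
    2).re - (c 0).re * (d 0).im * (e 0).im * n + (c 0).re * (d 0).im * (e 0).re + (c 0).re * (d 0).re * (e 0).re - (c
    0).re * (d 1).im * (e 1).im * n - (c 0).re * (d 1).im * (e 2).im * n - (c 0).re * (d 1).im * (e 2).re - (c 0).re *
    (d 1).re * (e 1).im - (c 0).re * (d 1).re * (e 1).re - 2 * (c 0).re * (d 1).re * (e 2).im - (c 0).re * (d 1).re *
    (e 2).re - (c 0).re * (d 2).im * (e 1).im * n - (c 0).re * (d 2).im * (e 2).im * n - (c 0).re * (d 2).im * (e
    2).re - (c 0).re * (d 2).re * (e 1).im - (c 0).re * (d 2).re * (e 1).re - 2 * (c 0).re * (d 2).re * (e 2).im - (c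
    0).re * (d 2).re * (e 2).re - (c 1).im * (d 0).im * (e 1).im * n - (c 1).im * (d 0).im * (e 1).re - (c 1).im * (d
    0).im * (e 2).im * n - (c 1).im * (d 0).im * (e 2).re - (c 1).im * (d 0).re * (e 1).im * n - (c 1).im * (d 0).re *
    (e 1).re - (c 1).im * (d 0).re * (e 2).im * n - (c 1).im * (d 0).re * (e 2).re + (c 1).im * (d 1).im * (e 0).im *
    n + (c 1).im * (d 1).im * (e 0).re * n + (c 1).im * (d 1).re * (e 0).im + (c 1).im * (d 1).re * (e 0).re + (c
    1).im * (d 2).im * (e 0).im * n + (c 1).im * (d 2).im * (e 0).re * n + (c 1).im * (d 2).re * (e 0).im + (c 1).im *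
    (d 2).re * (e 0).re - (c 1).re * (d 0).im * (e 1).re - (c 1).re * (d 0).im * (e 2).re - (c 1).re * (d 0).re * (e
    1).re - (c 1).re * (d 0).re * (e 2).re + (c 1).re * (d 1).re * (e 0).im + (c 1).re * (d 1).re * (e 0).re + (c
    1).re * (d 2).re * (e 0).im + (c 1).re * (d 2).re * (e 0).re - (c 2).im * (d 0).im * (e 1).im * n - 2 * (c 2).im *
    (d 0).im * (e 1).re - (c 2).im * (d 0).im * (e 2).im * n - 2 * (c 2).im * (d 0).im * (e 2).re - (c 2).im * (d
    0).re * (e 1).im * n - 2 * (c 2).im * (d 0).re * (e 1).re - (c 2).im * (d 0).re * (e 2).im * n - 2 * (c 2).im * (d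
    0).re * (e 2).re + (c 2).im * (d 1).im * (e 0).im * n + (c 2).im * (d 1).im * (e 0).re * n + 2 * (c 2).im * (d
    1).re * (e 0).im + 2 * (c 2).im * (d 1).re * (e 0).re + (c 2).im * (d 2).im * (e 0).im * n + (c 2).im * (d 2).im *
    (e 0).re * n + 2 * (c 2).im * (d 2).re * (e 0).im + 2 * (c 2).im * (d 2).re * (e 0).re - (c 2).re * (d 0).im * (e
    1).im - (c 2).re * (d 0).im * (e 1).re - (c 2).re * (d 0).im * (e 2).im - (c 2).re * (d 0).im * (e 2).re - (c
    2).re * (d 0).re * (e 1).im - (c 2).re * (d 0).re * (e 1).re - (c 2).re * (d 0).re * (e 2).im - (c 2).re * (d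
    0).re * (e 2).re + (c 2).re * (d 1).im * (e 0).im + (c 2).re * (d 1).im * (e 0).re + (c 2).re * (d 1).re * (e
    0).im + (c 2).re * (d 1).re * (e 0).re + (c 2).re * (d 2).im * (e 0).im + (c 2).re * (d 2).im * (e 0).re + (c
    2).re * (d 2).re * (e 0).im + (c 2).re * (d 2).re * (e 0).re) * h2

end Cfsg.Agent.H937.G24
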