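import Cfsg.Agent.H937.G24.Lift

/-!
# The 12-dimensional representations of covers of `G₂(4)` in odd characteristic (helper937)

`φ : X → AutO K` surjective with central kernel, `X` perfect and finite, `|K| = 4`; `ρ, σ : X → GL ι F` injective, `2 ≠ 0` in `F`:

* `twelve_le'` : `12 ≤ |ι|`;
* `adjoin_LL` : `|ι| = 12`: the lift of `LL` spans the matrix algebra;
* **`uniq`** : `|ι| = 12`: `σ` is conjugate to `ρ`.
-/

set_option autoImplicit false
set_option linter.unusedSectionVars false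

namespace Cfsg.Agent.H937.G24

open Cfsg.Lie Cfsg.Agent.H161.Oct Cfsg.Agent.H148.Oct Function Cfsg.Agent.H915.LD

universe u v

section rep

variable {ι : Type} [Fintype ι] [DecidableEq ι] {F : Type u} [Field F] {X : Type v} [Group X]

/-- matrices as endomorphisms -/
noncomputable def gE (ρ : X →* GL ι F) : X →* Module.End F (ι → F) :=
  ((Matrix.toLinAlgEquiv' : Matrix ι ι F ≃ₐ[F] _) : Matrix ι ι F →* Module.End F (ι → F)).comp
    ((Units.coeHom (Matrix ι ι F)).comp ρ)

theorem gE_apply (ρ : X →* GL ι F) (x : X) :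
    gE ρ x = (Matrix.toLinAlgEquiv' : Matrix ι ι F ≃ₐ[F] _) (ρ x : Matrix ι ι F) := rfl

theorem gE_inj {ρ σ : X →* GL ι F} {x y : X} (h : gE ρ x = gE σ y) : ρ x = σ y :=
  Units.ext ((Matrix.toLinAlgEquiv' : Matrix ι ι F ≃ₐ[F] _).injective h)

theorem gE_comp {Y : Type*} [Group Y] (ρ : X →* GL ι F) (s : Y →* X) (y : Y) : gE (ρ.comp s) y = gE ρ (s y) := rfl

theorem adjoin_mat {ρ : X →* GL ι F} (h : Algebra.adjoin F (Set.range (gE ρ)) = ⊤) :
    Algebra.adjoin F (Set.range fun g => (ρ g : Matrix ι ι F)) = ⊤ := by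
  let e : Matrix ι ι F ≃ₐ[F] Module.End F (ι → F) := Matrix.toLinAlgEquiv'
  have h1 : Set.range (gE ρ) = e.toAlgHom '' (Set.range fun g => (ρ g : Matrix ι ι F)) := by
    rw [← Set.range_comp]
    rfl
  rw [h1, ← AlgHom.map_adjoin] at h
  rw [eq_top_iff]
  intro M _
  have h3 : e.toAlgHom M ∈ (Algebra.adjoin F (Set.range fun g => (ρ g : Matrix ι ι F))).map e.toAlgHom := by
    rw [h]; trivial
  obtain ⟨N, hN, e1⟩ := h3
  have : N = M := e.injective e1
  rwa [← this]

end rep

variable {K : Type} [Field K] [Fintype K] [CharP K 2] {n : K} (h4 : Fintype.card K = 4) (hn : n ^ 2 + n + 1 = 0)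
  {ι : Type} [Fintype ι] [DecidableEq ι] {F : Type u} [Field F] (h2 : (2 : F) ≠ 0)

include h4 hn

section LLrep

variable {τ τ' : ↥(LL n (1 : K)) →* GL ι F}

omit h4 hn in
theorem nontriv (hτ : Injective τ) : ∃ b : K, gE τ (rL n b) ≠ 1 := by
  refine ⟨1, fun h => ?_⟩
  have h1 : τ (rL n 1) = τ 1 := gE_inj (h.trans (map_one _).symm)
  have h3 : rt (1 : K) = rt 0 := by
    rw [rt_zero]
    exact congrArg Subtype.val (hτ h1)
  exact one_ne_zero (rt_inj h3)

include h2

theorem LL_ge (hτ : Injective τ) : 12 ≤ Fintype.card ι := by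
  classical
  have h1 := dim_ge (gE τ) (psi F h4) (heisL hn) (psi_primitive F h4 h2 hn) h2 h4 (nontriv hτ)
  rwa [Module.finrank_pi] at h1

theorem LL_adjoin (hτ : Injective τ) (h12 : Fintype.card ι = 12) :
    Algebra.adjoin F (Set.range fun g => (τ g : Matrix ι ι F)) = ⊤ := by
  classical
  apply adjoin_mat
  exact adjoin_top (gE τ) (psi F h4) (heisL hn) (psi_primitive F h4 h2 hn) h2 h4 (nontriv hτ)
    (by rw [Module.finrank_pi, h12])

/-- the isomorphism with `PSU₃(4)` -/
theorem exists_psu [Fact (∀ r : K, r ^ 2 ≠ n + 1 * r)] : Nonempty (PSU 3 (EE16 n) 4 ≃* ↥(LL n (1 : K))) := by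
  obtain ⟨e⟩ := LS_surj h4 hn
  have h1 := H881.U34.center_bot (card_EE (n := n) h4)
  have hb : Bijective (QuotientGroup.mk' (Subgroup.center (SU 3 (EE16 n) 4))) := by
    refine ⟨?_, QuotientGroup.mk'_surjective _⟩
    rw [← MonoidHom.ker_eq_bot_iff, QuotientGroup.ker_mk', h1]
  exact ⟨(MulEquiv.ofBijective _ hb).symm.trans e.symm⟩

theorem LL_trace (hτ : Injective τ) (hτ' : Injective τ') (h12 : Fintype.card ι = 12) (l : ↥(LL n (1 : K))) :
    tr (τ l) = tr (τ' l) := by
  have := fact_ns h4 hn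
  obtain ⟨e⟩ := exists_psu h4 hn h2
  obtain ⟨t, rfl⟩ := e.surjective l
  have h1 := H881.U34.psu_tr (card_EE (n := n) h4) h2 (ρ := τ.comp e.toMonoidHom) (hτ.comp e.injective) h12 t
  have h3 := H881.U34.psu_tr (card_EE (n := n) h4) h2 (ρ := τ'.comp e.toMonoidHom) (hτ'.comp e.injective) h12 t
  exact h1.trans h3.symm

theorem LL_not_fixQ (hτ : Injective τ) (h12 : Fintype.card ι = 12) : ¬ FixQ τ.range := by
  have := fact_ns h4 hn
  obtain ⟨e⟩ := exists_psu h4 hn h2
  have h1 := H881.U34.psu_not_fixQ (card_EE (n := n) h4) h2 (ρ := τ.comp e.toMonoidHom) (hτ.comp e.injective) h12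
  have h3 : (τ.comp e.toMonoidHom).range = τ.range := by
    rw [MonoidHom.range_comp]
    have : e.toMonoidHom.range = ⊤ := MonoidHom.range_eq_top.2 e.surjective
    rw [this, MonoidHom.range_eq_map]
  rwa [h3] at h1

end LLrep

section X

variable {X : Type v} [Group X] [Finite X] {φ : X →* ↥(AutO K)} (hφ : Surjective φ)
  (hker : φ.ker ≤ Subgroup.center X)

include h2 hφ hker

theorem X_ge {ρ : X →* GL ι F} (hρ : Injective ρ) : 12 ≤ Fintype.card ι := by
  obtain ⟨s, hs⟩ := exists_LL_section h4 hn hφ hker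
  have hsi : Injective s := fun a b hab => Subtype.ext (by rw [← hs a, ← hs b, hab])
  exact LL_ge h4 hn h2 (τ := ρ.comp s) (hρ.comp hsi)

/-- **Uniqueness.** -/
theorem uniq (hX : commutator X = ⊤) {ρ σ : X →* GL ι F} (hρ : Injective ρ) (hσ : Injective σ)
    (h12 : Fintype.card ι = 12) : ∃ J : GL ι F, ∀ x, σ x = J * ρ x * J⁻¹ := by
  classical
  have : Finite ↥(AutO K) := finite_AutO
  have hsim : IsSimpleGroup ↥(AutO K) := by
    refine simple_AutO K ⟨n, n_ne hn, ?_⟩
    rintro rfl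
    apply one_ne_zero (α := K)
    linear_combination hn - two_zero (K := K)
  obtain ⟨s, hs⟩ := exists_LL_section h4 hn hφ hker
  have hsi : Injective s := fun a b hab => Subtype.ext (by rw [← hs a, ← hs b, hab])
  have hadj := LL_adjoin h4 hn h2 (τ := ρ.comp s) (hρ.comp hsi) h12
  obtain ⟨J, hJ⟩ := H920.exists_conj_of_trace (ρ.comp s) (σ.comp s) hadj
    (LL_trace h4 hn h2 (τ := ρ.comp s) (τ' := σ.comp s) (hρ.comp hsi) (hσ.comp hsi) h12)
  let σ' : X →* GL ι F := (MulAut.conj J⁻¹).toMonoidHom.comp σ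
  have hσ' : ∀ x, σ' x = J⁻¹ * σ x * J := fun x => by
    show J⁻¹ * σ x * J⁻¹⁻¹ = _
    rw [inv_inv]
  have hσi : Injective σ' := (MulAut.conj J⁻¹).injective.comp hσ
  have hK : ∀ l, ρ (s l) = σ' (s l) := by
    intro l
    have h1 : σ (s l) = J * ρ (s l) * J⁻¹ := hJ l
    rw [hσ', h1]
    group
  have hcen : ∀ {τ : X →* GL ι F}, Injective τ → ∀ z, φ z = 1 → ∃ c : F, (τ z : Matrix ι ι F) = c • 1 := by
    intro τ hτ z hz
    have h1 := LL_adjoin h4 hn h2 (τ := τ.comp s) (hτ.comp hsi) h12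
    have h3 : ∀ M : Matrix ι ι F, M * (τ z : Matrix ι ι F) = (τ z : Matrix ι ι F) * M := by
      intro M
      have hM : M ∈ Algebra.adjoin F (Set.range fun g => ((τ.comp s) g : Matrix ι ι F)) := by rw [h1]; trivial
      induction hM using Algebra.adjoin_induction with
      | mem x hx =>
        obtain ⟨l, rfl⟩ := hx
        change (τ (s l) : Matrix ι ι F) * (τ z : Matrix ι ι F) = (τ z : Matrix ι ι F) * (τ (s l) : Matrix ι ι F)
        rw [← Units.val_mul, ← Units.val_mul, ← map_mul, ← map_mul, ker_comm hker hz]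
      | algebraMap r => exact Algebra.commutes r _
      | add x y _ _ hx hy => rw [add_mul, mul_add, hx, hy]
      | mul x y _ _ hx hy => rw [mul_assoc, hy, ← mul_assoc, hx, mul_assoc]
    have h5 : (τ z : Matrix ι ι F) ∈ Set.range (Matrix.scalar ι) :=
      Matrix.mem_range_scalar_iff_commute_single'.2 fun i j => h3 _
    obtain ⟨c, hc⟩ := h5
    refine ⟨c, ?_⟩
    rw [← hc, Matrix.scalar_apply, ← Matrix.smul_one_eq_diagonal]
  have hZ : ∀ z, φ z = 1 → z * z = 1 → gE ρ z = gE σ' z := by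
    intro z hz hzz
    by_cases h1 : z = 1
    · rw [h1, map_one, map_one]
    · have key : ∀ {τ : X →* GL ι F}, Injective τ → (τ z : Matrix ι ι F) = (-1 : F) • 1 := by
        intro τ hτ
        obtain ⟨c, hc⟩ := hcen hτ z hz
        have hι : Nonempty ι := by
          rw [← Fintype.card_pos_iff, h12]; norm_num
        have h3 : (c * c) • (1 : Matrix ι ι F) = (1 : F) • 1 := by
          have h5 : (τ z : Matrix ι ι F) * (τ z : Matrix ι ι F) = 1 := by
            rw [← Units.val_mul, ← map_mul, hzz, map_one, Units.val_one]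
          rw [hc, smul_mul_smul_comm, mul_one] at h5
          rw [h5, one_smul]
        have h5 : c * c = 1 := smul_left_injective F (one_ne_zero (α := Matrix ι ι F)) h3
        have h6 : c ≠ 1 := by
          rintro rfl
          apply h1
          apply hτ
          rw [map_one]
          apply Units.ext
          rw [hc, one_smul, Units.val_one]
        have h7 : (c - 1) * (c + 1) = 0 := by linear_combination h5
        have h8 := (mul_eq_zero.1 h7).resolve_left (sub_ne_zero.2 h6)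
        rw [hc, eq_neg_of_add_eq_zero_left h8]
      rw [gE_apply, gE_apply, key hρ, key hσi]
  have h5 := rigid hn h4 hX hφ hker hs h2 (V := ι → F) (by rw [Module.finrank_pi, h12]) (ρ := gE ρ) (σ := gE σ')
    (nontriv (τ := ρ.comp s) (hρ.comp hsi)) (fun l => by rw [gE_apply, gE_apply, hK]) hZ
  refine ⟨J, fun x => ?_⟩
  have h6 : ρ x = σ' x := gE_inj (by rw [h5])
  rw [h6, hσ']
  group

end X

end Cfsg.Agent.H937.G24
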