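import Cfsg.Agent.H937.G24.Grp

/-!
# The element of order five, the torus, the elements of `Q ∩ SU₃(4)` (helper937)

`K` of characteristic two, `n ^ 2 + n + 1 = 0`, `w = wp n 1`.
-/

set_option autoImplicit false
set_option linter.unusedSimpArgs false
set_option linter.unusedSectionVars false

namespace Cfsg.Agent.H937.G24

open Cfsg.Lie Cfsg.Agent.H161.Oct Cfsg.Agent.H148.Oct

variable {K : Type*} [Field K]

theorem sh_P0 (A : Matrix.SpecialLinearGroup (Fin 2) K) : (sh A).1 ∈ P0 K := by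
  refine mem_P0_of (sh A).2 fun x hx => ?_
  obtain ⟨h0, h2, h3, h4, h5, h7⟩ := hx
  rw [mem_N0, sh_apply]
  simp only [sh0, sh2, sh3, sh4, sh5, sh7, h0, h2, h3, h4, h5, h7]
  refine ⟨?_, ?_, ?_, ?_, ?_, ?_⟩ <;> ring

theorem sh_rt (A : Matrix.SpecialLinearGroup (Fin 2) K) (b : K) : sh A * rt b = rt b * sh A := by
  apply val_ext
  intro x
  rw [val_mul, val_mul, rt_apply, rt_apply, sh_apply, sh_apply]
  apply ext8 <;> simp only [sh0, sh1, sh2, sh3, sh4, sh5, sh6, sh7, ut0, ut1, ut2, ut3, ut4, ut5, ut6, ut7] <;> ring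

section chartwo

variable [CharP K 2] {n : K} (hn : n ^ 2 + n + 1 = 0)

theorem two_zero : (2 : K) = 0 := by exact_mod_cast CharP.cast_eq_zero K 2

include hn

theorem n_cube : n ^ 3 = 1 := by linear_combination (n - 1) * hn

theorem n_ne : n ≠ 0 := by
  rintro rfl
  norm_num at hn

/-- the matrix of order five -/
def ym : Matrix.SpecialLinearGroup (Fin 2) K := ⟨!![0, n; n ^ 2, n], by
  rw [Matrix.det_fin_two_of]
  have h2 := two_zero (K := K)
  linear_combination (n - 1) * (-1 : K) * hn - h2⟩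

theorem ym_val : (ym hn).1 = !![0, n; n ^ 2, n] := rfl

theorem ym_pow : ym hn ^ 5 = 1 := by
  have h2 := two_zero (K := K)
  have e2 : (!![0, n; n ^ 2, n] : Matrix (Fin 2) (Fin 2) K) * !![0, n; n ^ 2, n] = !![1, n ^ 2; 1, n] := by
    ext i j
    fin_cases i <;> fin_cases j <;> simp [Matrix.mul_apply, Fin.sum_univ_two]
    · linear_combination (n - 1) * hn
    · ring
    · linear_combination (n - 1) * hn
    · linear_combination n * hn - n * h2
  have e4 : (!![1, n ^ 2; 1, n] : Matrix (Fin 2) (Fin 2) K) * !![1, n ^ 2; 1, n] = !![n, n; n ^ 2, 0] := by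
    ext i j
    fin_cases i <;> fin_cases j <;> simp [Matrix.mul_apply, Fin.sum_univ_two]
    · linear_combination hn - n * h2
    · linear_combination n * hn - n * h2
    · linear_combination hn - n ^ 2 * h2
    · linear_combination n ^ 2 * h2
  have e5 : (!![n, n; n ^ 2, 0] : Matrix (Fin 2) (Fin 2) K) * !![0, n; n ^ 2, n] = 1 := by
    ext i j
    fin_cases i <;> fin_cases j <;> simp [Matrix.mul_apply, Fin.sum_univ_two]
    · linear_combination (n - 1) * hn
    · linear_combination n ^ 2 * h2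
    · linear_combination (n - 1) * hn
  apply Subtype.ext
  rw [Matrix.SpecialLinearGroup.coe_pow, ym_val, Matrix.SpecialLinearGroup.coe_one]
  calc (!![0, n; n ^ 2, n] : Matrix (Fin 2) (Fin 2) K) ^ 5 = ((!![0, n; n ^ 2, n] * !![0, n; n ^ 2, n]) *
      (!![0, n; n ^ 2, n] * !![0, n; n ^ 2, n])) * !![0, n; n ^ 2, n] := by noncomm_ring
    _ = 1 := by rw [e2, e4, e5]

/-- the element of order five -/
noncomputable def yy : ↥(AutO K) := sh (ym hn)

theorem yy_pow : yy hn ^ 5 = 1 := by rw [yy, ← map_pow, ym_pow, map_one]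

theorem yy_P0 : (yy hn).1 ∈ P0 K := sh_P0 _

theorem yy_rt (b : K) : yy hn * rt b = rt b * yy hn := sh_rt _ b

theorem yy_apply (x : V K) : (yy hn).1 x = shF !![0, n; n ^ 2, n] x := rfl

theorem yy_LL : yy hn ∈ LL n 1 := by
  have h2 := two_zero (K := K)
  rw [mem_LL, yy_apply]
  apply ext8 <;> simp [sh0, sh1, sh2, sh3, sh4, sh5, sh6, sh7, wp]
  · linear_combination -n ^ 3 * h2
  · linear_combination (n - 1) * hn
  · linear_combination (-n * (n - 1)) * hn - n ^ 3 * h2
  · linear_combination (n - 1) * hn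

/-- the quadratic relation of `y` on `N0` -/
theorem yy_N0 {z : V K} (hz : z ∈ N0 K) : (yy hn).1 ((yy hn).1 z) = n • (yy hn).1 z - z := by
  have h2 := two_zero (K := K)
  obtain ⟨z0, z2, z3, z4, z5, z7⟩ := hz
  rw [yy_apply, yy_apply]
  apply ext8 <;> simp [sh0, sh1, sh2, sh3, sh4, sh5, sh6, sh7, z0, z2, z3, z4, z5, z7]
  · linear_combination (z 1 * (n - 1)) * hn + z 1 * h2
  · linear_combination (z 6 * (n - 1)) * hn + z 6 * h2

/-- a vector of `DD` orthogonal to `1` and `w` -/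
def m1 (n : K) : V K := ![0, 0, 1, 0, 0, n, 0, 0]

theorem yy_m1 : (yy hn).1 ((yy hn).1 (m1 n)) = n ^ 2 • (yy hn).1 (m1 n) - m1 n := by
  have h2 := two_zero (K := K)
  rw [yy_apply, yy_apply]
  apply ext8 <;> simp [sh0, sh1, sh2, sh3, sh4, sh5, sh6, sh7, m1]
  · ring
  · linear_combination (-1 + n - n ^ 3 + n ^ 4) * hn + h2
  · linear_combination (-2 + n + n ^ 2 - 2 * n ^ 3 + n ^ 4 + n ^ 5) * hn + (1 + n) * h2
  · ring

/-- a vector of `N0` -/
def nv (a b : K) : V K := ![0, a, 0, 0, 0, 0, b, 0]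

omit hn in
theorem fix_of_diff {g : ↥(AutO K)} {v : V K} (h : g.1 v - v = 0) : g.1 v = v := sub_eq_zero.1 h

/-- **the elements of `QQ` commuting with `y` are in `RR`** -/
theorem cent_yy {q : ↥(AutO K)} (hq : q ∈ QQ K) (hc : yy hn * q = q * yy hn) : q ∈ RR K := by
  have h2 := two_zero (K := K)
  have hn0 := n_ne hn
  have hcv : ∀ v, (yy hn).1 (q.1 v) = q.1 ((yy hn).1 v) := fun v => by rw [← val_mul, hc, val_mul]
  -- the vector `o`
  have ho : q.1 o = o := map_o q.2
  -- the vector `w`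
  have hPw : Perp (wp n 1) := perp_wp n 1
  have hw : q.1 (wp n 1) = wp n 1 := by
    apply fix_of_diff
    have hd := hq.2 _ hPw
    obtain ⟨d, hd'⟩ : ∃ d, d = q.1 (wp n 1) - wp n 1 := ⟨_, rfl⟩
    rw [← hd'] at hd ⊢
    have h3 : (yy hn).1 d = d := by
      rw [hd', map_sub, hcv, yy_LL hn]
    have h4 := yy_N0 hn hd
    rw [h3, h3] at h4
    have h5 : n • d = 0 := by
      have : n • d = (2 : K) • d := by
        rw [two_smul]
        nth_rewrite 2 [h4]
        abel
      rw [this, h2, zero_smul]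
    exact (smul_eq_zero.1 h5).resolve_left hn0
  -- the vector `m1`
  have hPm : Perp (m1 n) := by simp [Perp, m1]
  have hm : q.1 (m1 n) = m1 n := by
    apply fix_of_diff
    have hd := hq.2 _ hPm
    obtain ⟨d, hd'⟩ : ∃ d, d = q.1 (m1 n) - m1 n := ⟨_, rfl⟩
    rw [← hd'] at hd ⊢
    have h3 : (yy hn).1 d = q.1 ((yy hn).1 (m1 n)) - (yy hn).1 (m1 n) := by
      rw [hd', map_sub, hcv]
    have h4 := yy_N0 hn hd
    have h5 : (yy hn).1 ((yy hn).1 d) = n ^ 2 • (yy hn).1 d - d := by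
      rw [h3, map_sub, hcv, yy_m1 hn, map_sub, map_smul, hd']
      module
    have h6 : (n - n ^ 2) • (yy hn).1 d = 0 := by
      rw [sub_smul]
      have h7 := h4.symm.trans h5
      rw [sub_eq_zero]
      exact sub_left_injective h7
    have h7 : n - n ^ 2 ≠ 0 := by
      intro h0
      have : (1 : K) = 0 := by linear_combination hn + h0 - n * h2
      exact one_ne_zero this
    have h8 := (smul_eq_zero.1 h6).resolve_left h7
    exact (yy hn).1.map_eq_zero_iff.1 h8
  have hPym : Perp ((yy hn).1 (m1 n)) := perp_map (yy_P0 hn) hPm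
  have hym : q.1 ((yy hn).1 (m1 n)) = (yy hn).1 (m1 n) := by rw [← hcv, hm]
  rw [mem_RR]
  intro x hx
  obtain ⟨x3, x4⟩ := hx
  -- decomposition
  have hdec : x = nv (x 1) (x 6) + (x 0 + (x 5 + n * x 2)) • o + (x 7 + x 0) • wp n 1 +
      (x 2 + (x 7 + x 0) + (x 5 + n * x 2)) • m1 n + (x 5 + n * x 2) • (yy hn).1 (m1 n) := by
    rw [yy_apply]
    apply ext8 <;> simp [sh0, sh1, sh2, sh3, sh4, sh5, sh6, sh7, m1, wp, o, nv, x3, x4]
    · linear_combination (n * x 2 - n * x 5 - n ^ 2 * x 2 + x 5) * hn + (-n * x 2 - x 5) * h2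
    · linear_combination (-n * x 2 + n * x 5 + n ^ 2 * x 2 - x 5) * hn + (-x 0 - x 7) * h2
    · linear_combination (n * x 2 - 2 * n * x 5 - 2 * n ^ 2 * x 2 + n ^ 2 * x 5 + n ^ 3 * x 2 + x 5) * hn + (-n * x 2) * h2
    · linear_combination (-n * x 2 + n * x 5 + n ^ 2 * x 2 - x 5) * hn + (-x 0) * h2
  have hN : nv (x 1) (x 6) ∈ N0 K := by
    rw [mem_N0]
    simp [nv]
  rw [hdec, map_add, map_add, map_add, map_add, hq.1 _ hN, map_smul, map_smul, map_smul, map_smul, ho, hw, hm, hym]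

end chartwo

end Cfsg.Agent.H937.G24
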